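import Cfsg.Agent.Lib.X32.Pr
import Cfsg.Agent.Lib.McL27.UFinal

/-! The case of an intersection of order 4: the group `U₄(3)` (helper77) -/

set_option autoImplicit false
set_option maxRecDepth 100000

namespace H31.X32
open H70.TM H95 Subgroup SD Cfsg H70.Q32 W72

variable {G : Type*} [Group G] {φ ψ : EP →* G}

theorem nw4_stab : ∀ ν : SD EP WP, cj ν (a * c) = a * c →
    ν.r ∈ [1, s, t * x, s * t * x, t * s * y, s * t * s * y, t * s * t * y * x, c2 * y * x] := by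
  decide +kernel

theorem nw4_four : ∀ u ∈ [1, s, t * x, s * t * x, t * s * y, s * t * s * y, t * s * t * y * x, c2 * y * x],
    ∀ v ∈ [1, s, t * x, s * t * x, t * s * y, s * t * s * y, t * s * t * y * x, c2 * y * x],
    u ≠ 1 → v ≠ 1 → u ≠ v → u * u = 1 → v * v = 1 → u * v = v * u →
    (∀ w ∈ [s, t * s * t * y * x, c2 * y * x], w ∈ [u, v, u * v]) ∨
      ∀ w ∈ [t * x, s * t * s * y], w ∈ [u, v, u * v] := by
  decide +kernel

theorem nw4_om : ∀ k ∈ OmP, ∃ v ∈ [1, s, t * s * t * y * x, c2 * y * x],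
    k * v * (k * v) * (k * v) = 1 := by
  decide +kernel

theorem card_OmP : Nat.card OmP = 36 :=
  (El.card_subtype EvP).trans (by decide +kernel)

theorem Pr.X_eq4 [Finite G] (P : Pr φ ψ) (h : R4 φ ψ) (hG : ∀ N : Subgroup G, N.index ≠ 2) :
    X WP φ = OmP := by
  have h9 := P.e9_4 h
  obtain ⟨ν, h1⟩ := P.fr.exR (P.cen (u := b * d) (by decide +kernel))
  obtain ⟨μ, h2⟩ := P.fr.exR (P.cen (u := b * c * d) (by decide +kernel))
  have m : ∀ w ∈ [ν.r, μ.r, ν.r * μ.r], w ∈ X WP φ := by simp [h1.memX, h2.memX, mul_mem]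
  have cm : ν.r * μ.r = μ.r * ν.r := by
    refine (P.fr.r_eq (h1.mul h2) (μ := μ * ν * ⟨a * c, 1⟩) ?_).trans (mul_one _)
    have := (h2.mul h1).mul (R.self (W := WP) φ (a * c))
    rwa [P.e1, ← map_mul, ← map_mul, show b * c * d * (b * d) * zP = b * d * (b * c * d) by
      decide +kernel, map_mul] at this
  have ne : ν.r ≠ μ.r := fun e => by
    obtain ⟨v, e'⟩ := (P.fr.memQ (h1.inv.mul h2)).2 (by rw [mul_r, inv_r, e, inv_mul_cancel])
    rw [← map_inv, ← map_mul] at e'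
    exact absurd (P.symm.both e'.symm).1 (by decide +kernel)
  rcases nw4_four _ (nw4_stab ν (P.fr.cj_fix h1 (by rw [P.e1, P.fr'.cz]))) _
    (nw4_stab μ (P.fr.cj_fix h2 (by rw [P.e1, P.fr'.cz]))) (fun e => h.1 ((P.fr.memQ h1).2 e))
    (fun e => h.2 ((P.fr.memQ h2).2 e)) ne
    (P.fr.r_sq h1 (by rw [← map_mul, show b * d * (b * d) = 1 by decide +kernel, map_one]))
    (P.fr.r_sq h2 (by rw [← map_mul, show b * c * d * (b * c * d) = 1 by decide +kernel, map_one]))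
    cm with k | k
  · refine le_antisymm (fun _ => P.fr.even hG h9 (m _ (k s (by simp)))) fun g hg => ?_
    obtain ⟨v, hv, e⟩ := nw4_om g hg
    refine (mul_mem_cancel_right ?_).1 (Fr.e9_mem h9 e)
    rcases List.mem_cons.1 hv with rfl | hv
    exacts [one_mem _, m _ (k v hv)]
  · exact (P.fr.kk mkP hG kdP ((mul_mem_cancel_right h9.1).1 (m _ (k _ (by simp))))
      ((mul_mem_cancel_right h9.2).1 (m _ (k _ (by simp))))).elim

theorem Pr.card4 (P : Pr φ ψ) (h : R4 φ ψ) : Nat.card (φ.range ⊓ ψ.range : Subgroup G) = 4 := by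
  have z2 := P.fr.sq
  have s2 := P.fr'.sq
  have cm : φ zP * ψ zP = ψ zP * φ zP := by rw [← P.e1, P.fr.cz]
  have : φ.range ⊓ ψ.range = closure {φ zP, ψ zP} := by
    refine le_antisymm (fun y hy => ?_) ((closure_le _).2 ?_)
    · obtain ⟨⟨u, e⟩, v, e'⟩ := mem_inf.1 hy
      have := P.symm.both (e'.trans e.symm)
      rw [mem_closure_four z2 s2 cm, ← e']
      rcases (by decide +kernel : ∀ u : EP, u * u = 1 → u * (a * c) = a * c * u →
        u ∈ [1, zP, a * c, a * c * zP] ∨ u⁻¹ * (b * d) ∈ [1, zP, a * c, a * c * zP] ∨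
        u⁻¹ * (b * c * d) ∈ [1, zP, a * c, a * c * zP]) v this.1 this.2 with k | k | k
      · simp only [List.mem_cons, List.not_mem_nil, or_false] at k
        rcases k with rfl | rfl | rfl | rfl
        exacts [.inl (map_one _), .inr (.inr (.inl rfl)), .inr (.inl P.e2),
          .inr (.inr (.inr (by rw [map_mul, P.e2])))]
      all_goals
        have := mul_mem (show ψ v ∈ φ.range from ⟨u, e.trans e'.symm⟩) (P.symm.mem4 k)
        rw [← map_mul, mul_inv_cancel_left] at this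
      exacts [absurd this h.1, absurd this h.2]
    · rintro y (rfl | rfl)
      exacts [mem_inf.2 ⟨⟨_, rfl⟩, _, P.e2⟩, mem_inf.2 ⟨⟨_, P.e1⟩, _, rfl⟩]
  rw [this]
  exact (H19.isKleinFour_closure_pair P.fr.ne P.fr'.ne (fun e => absurd (P.fr.inj (e.trans P.e1.symm))
    (by decide +kernel)) z2 s2 cm).card_four

/-- the generators inside the extraspecial group -/
noncomputable def nw4E : ℕ → EP := H27.W.gv [zP, a * c, d * c * b, 1, d * b * a * a, 1, c * b * a]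

theorem nw4_rel : ∀ w ∈ H27.MP.RQ, ((∀ l ∈ w, l < 2 * 7) ∧ H54.evW nw4E w = 1) ∨
    ((∀ l ∈ [w.getD 1 0], l < 2 * 7) ∧ ∀ l ∈ w.drop 3, l < 2 * 7) ∧
    ((w = 2 * 7 :: w.getD 1 0 :: (2 * 7 + 1) :: w.drop 3 ∧
      cj (⟨1, y * y * x⟩ : SD EP WP) (H54.evW nw4E [w.getD 1 0]) * H54.evW nw4E (w.drop 3) = 1) ∨
    (w = 2 * 8 :: w.getD 1 0 :: (2 * 8 + 1) :: w.drop 3 ∧
      cj (⟨d * c * a, y * x⟩ : SD EP WP) (H54.evW nw4E [w.getD 1 0]) * H54.evW nw4E (w.drop 3) = 1)) := by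
  decide +kernel

theorem Fr.uq (F : Fr WP φ zP) (h9 : x ∈ X WP φ ∧ y ∈ X WP φ) :
    ∃ g : ℕ → G, H27.MP.UQ φ.range g ∧ g 0 = φ zP ∧ g 1 = φ (a * c) := by
  obtain ⟨g7, r7⟩ := exR_of_memX (φ := φ) (ν := (⟨1, y * y * x⟩ : SD EP WP))
    (mul_mem (mul_mem h9.2 h9.2) h9.1)
  obtain ⟨g8, r8⟩ := exR_of_memX (φ := φ) (ν := (⟨d * c * a, y * x⟩ : SD EP WP)) (mul_mem h9.2 h9.1)
  let g : ℕ → G := fun i => if i = 7 then g7 else if i = 8 then g8 else φ (nw4E i)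
  have e : ∀ i, i < 7 → g i = φ (nw4E i) := fun i hi => by
    simp only [g]; rw [if_neg (by omega), if_neg (by omega)]
  have k0 : ∀ w, (∀ l ∈ w, l < 2 * 7) → H54.evW g w = φ (H54.evW nw4E w) := fun w hw => by
    rw [H54.map_evW]; exact H54.evW_congr e hw
  have k1 : ∀ (i : ℕ) (ν : SD EP WP) (l : ℕ) (w : List ℕ), R φ (g i) ν → (∀ j ∈ [l], j < 2 * 7) →
      (∀ j ∈ w, j < 2 * 7) → cj ν (H54.evW nw4E [l]) * H54.evW nw4E w = 1 →
      H54.evW g (2 * i :: l :: (2 * i + 1) :: w) = 1 := fun i ν l w r h1 h2 h3 => by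
    rw [← map_one φ, ← h3, map_mul, ← r, ← k0 _ h1, ← k0 _ h2]
    simp only [H54.evW_cons, H54.evW_nil, H54.xl_even, H54.xl_odd, mul_one, mul_assoc]
  refine ⟨g, ⟨F.l3, by rw [F.cardQ]; norm_num, fun w hw => ?_, fun i hi => ?_, fun K hK => ?_⟩, rfl, rfl⟩
  · rcases nw4_rel w hw with ⟨h1, h2⟩ | ⟨⟨h1, h2⟩, ⟨h3, h4⟩ | ⟨h3, h4⟩⟩
    · rw [k0 w h1, h2, map_one]
    · rw [h3]; exact k1 7 _ _ _ r7 h1 h2 h4
    · rw [h3]; exact k1 8 _ _ _ r8 h1 h2 h4
  · exact ⟨_, (e i (by simp at hi; omega)).symm⟩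
  · have m : ∀ w : List ℕ, (∀ l ∈ w, l / 2 ∈ [0, 1, 2, 4, 6]) → H54.evW nw4E w ∈ K.comap φ :=
      fun w hw => H54.evW_mem fun l hl => by
        have := hw l hl
        rw [mem_comap, ← e _ (by simp at this; omega)]; exact hK _ this
    have := H70.Q32.eq_top (K := K.comap φ)
      ((by decide +kernel : H54.evW nw4E [2, 8, 4] = a) ▸ m _ (by decide))
      ((by decide +kernel : H54.evW nw4E [12, 2] = b) ▸ m _ (by decide))
      ((by decide +kernel : H54.evW nw4E [4, 8] = c) ▸ m _ (by decide))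
      ((by decide +kernel : H54.evW nw4E [8, 12, 2] = d) ▸ m _ (by decide))
    rintro _ ⟨u, rfl⟩
    exact this.ge (mem_top u)

theorem Pr.u43 [Finite G] {φ ψ : EP →* G} (P : Pr φ ψ) (h : R4 φ ψ)
    (hG : ∀ N : Subgroup G, N.index ≠ 2) :
    ∃ (F : Type) (_ : Field F) (_ : Fintype F), Fintype.card F = 9 ∧ Nonempty (G ≃* PSU 4 F 3) := by
  obtain ⟨g, hx, e0, e1⟩ := P.fr.uq (P.e9_4 h)
  have h4 := P.card4 h
  have hc : Nat.card (centralizer ({φ zP} : Set G)) = 1152 := by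
    rw [P.fr.cardC, P.X_eq4 h hG, card_OmP]
  obtain ⟨k, γ, e⟩ := P.sim.eq
  have e2 : ψ.range = φ.range.map (MulAut.conj k).toMonoidHom := by rw [e, range_cf, range_tw]
  obtain ⟨v, hy, r⟩ := H27.MP.stepA hx (k := k) (by rw [e0, e1, P.e1, e, cf_apply, Fr.tw_z])
    (by rw [e0, e1]; exact fun f => absurd (P.fr.inj f) (by decide +kernel)) (e2 ▸ h4)
  have e3 := hy 0 (by simp)
  obtain ⟨v', e4, r'⟩ := H27.MP.stepB r (e3 ▸ hx.l3.ne_one) fun w hw => e3 ▸ hx.l3.cent w fun u hu =>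
    mem_c.1 (hx.gen (centralizer {w}) (fun i hi => mem_c.2 (by
      rw [← hy i (by simp at hi ⊢; omega)]; exact (hw i hi).symm)) hu)
  rw [e3] at e4
  have U := H27.MP.finalU r' (e4 ▸ hx.l3.ne_one) (by rw [e4, e0, hc])
  exact ⟨H74.F9, inferInstance, inferInstance, H74.F9.card_eq,
    ⟨U.equiv.some.trans (H27.MP.equiv_psu H74.F9 H74.F9.card_eq).some⟩⟩

theorem eqns_nw4 : True := by
  have := @nw4E.eq_1
  trivial

end H31.X32
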