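import Cfsg.Agent.Lib.X32.Pr
import Cfsg.Agent.Lib.M12C.Main

/-! The case `C(z)/Q ≅ S₃` of an involution which is not weakly closed in `Q` -/

set_option autoImplicit false
set_option maxRecDepth 100000
set_option synthInstance.maxSize 4000

namespace H31.X32
open H70.TM H95 Subgroup SD Cfsg
variable {G : Type*} [Group G]

namespace NW8a
open H69

/-- the end of `H70.TM.main` -/
theorem of_rel [Finite G] {Q : Subgroup G} {a b c d x t y : G} (hQ : L3 Q (a * a)) (hc : Nat.card 𝐂₀(a * a) ≤ 192)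
    (h : H70.H1.Rel a b c d x t ∨ H70.H2.Rel a b c d x t ∨ H70.H3.Rel a b c d x t ∨ H70.H4.Rel a b c d x t)
    (hy : y ∈ Q) (k : Cj (a * a) y) (ne : y ≠ a * a) :
    E8 G ∨ Nonempty (G ≃* alternatingGroup (Fin 8)) ∨ Nonempty (G ≃* alternatingGroup (Fin 9)) ∨
      Spor.IsoM12 G := by
  have s1 := hQ.ne_one
  have y2 := k.sq hQ.sq
  have y1 : y ≠ 1 := by
    obtain ⟨g, rfl⟩ := k
    exact fun e => s1 (conj_eq_one_iff.1 e)
  have hg := hQ.central y hy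
  rcases h with h | h | h | h
  · obtain ⟨φ, M, e⟩ := H70.H1.mod_of_rel h s1 hc
    rw [← e] at hg ne k
    obtain ⟨u, rfl⟩ := M.ran y hg
    have : Cj (φ H70.H1.z) (φ H70.H1.v) := by
      rcases H70.H1.cls u (M.inj (by rw [map_mul, y2, map_one])) (fun c => y1 (by rw [c, map_one])) with
        rfl | c | c | c
      exacts [absurd rfl ne, k.trans (c.map φ).symm, absurd k (H70.H1.nq' M c.symm),
        H70.H1.cj_v_of_t M (k.trans (c.map φ).symm)]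
    exact (H70.H1.main M this).imp_right fun h => Or.inr (Or.inr h)
  · obtain ⟨φ, M, e⟩ := H70.H2.mod_of_rel h s1 hc
    rw [← e] at hg ne k hQ
    obtain ⟨u, rfl⟩ := M.ran y hg
    refine (H70.H2.main M ((by decide +kernel : ∀ u : H70.H2.E, u * u = 1 → u ≠ 1 → u ≠ H70.H2.z →
      (u * H70.H2.x * u⁻¹ * H70.H2.x⁻¹) ^ 4 = 1 → Cj H70.H2.v1 u ∨ Cj H70.H2.v2 u ∨ Cj H70.H2.v3 u) u
      (M.inj (by rw [map_mul, y2, map_one])) (fun c => y1 (by rw [c, map_one]))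
      (fun c => ne (by rw [c])) (M.inj ?_)) k).imp_right (Or.imp_right Or.inl)
    rw [map_pow, map_one]
    refine hQ.pow_four ?_
    have := mul_mem hy (conj_mem_of_normalizer (hQ.norm _ (M.comm H70.H2.x)) (inv_mem hy))
    simpa only [map_mul, map_inv, mul_assoc] using this
  · exact absurd (h3_isolated h s1 hc (mem_c.2 hg) k) ne
  · exact absurd (h4_isolated h s1 hc (mem_c.2 hg) k) ne

open H70.Q32 W72

theorem cases : ∀ v ∈ [t * s * t * y * x, c2 * y * x], ∀ e : WP, e * e * e = 1 → e ≠ 1 → v * e * v = e⁻¹ →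
    (∀ l : EP, cj (⟨l, v⟩ : SD EP WP) (a * c) = a * c → cj (⟨l, v⟩ : SD EP WP) (b * d) = b * d * (a * c) →
      ((⟨l, v⟩ : SD EP WP) * ⟨l, v⟩ = 1 ∨ (⟨l, v⟩ : SD EP WP) * ⟨l, v⟩ = ⟨zP, 1⟩) →
      ∃ m : EP, (⟨m, e⟩ : SD EP WP) * ⟨m, e⟩ * ⟨m, e⟩ = 1 ∧
        (⟨l, v⟩ : SD EP WP) * ⟨m, e⟩ * (⟨l, v⟩ : SD EP WP)⁻¹ = (⟨m, e⟩ : SD EP WP)⁻¹ ∧
        ∀ u, cj (⟨m, e⟩ : SD EP WP) u = u → u = 1 ∨ u = zP) ∨
    ∃ w ∈ [a, c], (∀ k ∈ [1, e, e⁻¹, v, v * e, v * e⁻¹], ∀ l : EP,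
        (cj (⟨l, k⟩ : SD EP WP) w = w ∨ cj (⟨l, k⟩ : SD EP WP) w = w * zP) ∧
        (cj (⟨l, k⟩ : SD EP WP) (b * d) = b * d → k = 1) ∧
        (k ≠ 1 → k * k = 1 → (∀ k' ∈ [1, e, e⁻¹, v, v * e, v * e⁻¹], k' * k = k * k' → k' = 1 ∨ k' = k) ∧
          ∀ u, cj (⟨l, k⟩ : SD EP WP) u = u → ∀ u', cj (⟨l, k⟩ : SD EP WP) u' = u' → u * u' = u' * u)) ∧
      ∀ u : EP, u * w = w * u → u * u = 1 → u ≠ 1 → u = zP ∨
        ∃ k ∈ [1, e, e⁻¹, v, v * e, v * e⁻¹], ∃ l : EP, cj (⟨l, k⟩ : SD EP WP) (a * c) = u := by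
  decide +kernel

theorem not_cj {φ : EP →* G} (F : Fr WP φ zP)
    (h : ∀ k ∈ X WP φ, ∀ l : EP, cj (⟨l, k⟩ : SD EP WP) (b * d) = b * d → k = 1) : ¬ Cj (φ zP) (φ (b * d)) := by
  rintro ⟨g, e⟩
  have F' := F.cf g
  have e' : cf g φ zP = φ (b * d) := e
  obtain ⟨u, hu⟩ := F.symQ (sim_cf g φ) ⟨_, e'.symm⟩
  obtain ⟨w, h1, h2⟩ := (by decide +kernel : ∀ u : EP, u * u = 1 → u ≠ 1 → u ≠ zP → ∃ w, w * u = u * w ∧ w * w = zP) u
    (F'.inj (by rw [map_mul, hu, F.sq, map_one])) (fun f => F.ne (by rw [← hu, f, map_one]))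
    fun f => absurd (F.inj ((f ▸ hu).symm.trans e')) (by decide +kernel)
  obtain ⟨κ, k⟩ := F.exR (g := cf g φ w) (by rw [← hu, ← map_mul, h1, map_mul])
  obtain ⟨q, hq⟩ := (F.memQ k).2 (h _ k.memX κ.l (F.cj_fix k (by rw [← e', F'.cz])))
  exact (by decide +kernel : ∀ q : EP, q * q ≠ b * d) q (F.inj (by rw [map_mul, hq, ← map_mul, h2, e']))

end NW8a

open H70.Q32 W72 in
theorem Pr.s3 [Finite G] {φ ψ : EP →* G} (P : Pr φ ψ) (h : R8 φ ψ)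
    (hG : ∀ N : Subgroup G, N.index ≠ 2) (h9 : ¬ (W72.x ∈ X WP φ ∧ W72.y ∈ X WP φ)) :
    E8 G ∨ Nonempty (G ≃* alternatingGroup (Fin 8)) ∨ Nonempty (G ≃* alternatingGroup (Fin 9)) ∨
      Spor.IsoM12 G := by
  have F := P.fr
  obtain ⟨ν, hν, n1, n2, n3⟩ := P.r8 h
  have u2 : ψ (b * c * d) * ψ (b * c * d) = 1 := by
    rw [← map_mul, show b * c * d * (b * c * d) = 1 by decide +kernel, map_one]
  obtain ⟨e, he, e3, e1, ve, hX⟩ := (F.xp hν.memX (F.r_sq hν u2) (by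
    rcases n3 with k | k <;> rw [k] <;> decide +kernel)).resolve_left h9
  have zs : Cj (φ zP) (φ (a * c)) := P.e1 ▸ F.sim_cj P.sim
  rcases NW8a.cases ν.r (by simpa using n3) e e3 e1 ve with k | ⟨w, -, k1, k2⟩
  · obtain ⟨m, m3, m1, m2⟩ := k ν.l n1 n2 (F.sqr hν u2)
    obtain ⟨g, hg⟩ := exR_of_memX (φ := φ) (ν := (⟨m, e⟩ : SD EP WP)) he
    obtain ⟨g, hg, g3⟩ := F.ex3 hg m3
    have nQ : ∀ {g : G} {μ : SD EP WP}, R φ g μ → ∀ q ∈ φ.range, g * q * g⁻¹ ∈ φ.range := by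
      rintro g μ k _ ⟨q, rfl⟩
      exact ⟨_, (k q).symm⟩
    obtain ⟨a', b', c', d', e', rel⟩ := FS.frame (Q := φ.range) (z := φ zP) (x := g) (t := ψ (b * c * d))
      ⟨F.l3.toES, g3, hg.eq (mdP.cj_z _), nQ hg, by
        rintro _ ⟨q, rfl⟩ k
        exact (m2 q (F.cj_of hg k)).imp (fun k => by rw [k, map_one]) fun k => by rw [k], F.cardQ⟩
      (F.eq3 ((hν.conj hg).of_eq m1) hg.inv (by rw [conj_mul, conj_mul, g3]; group) (by
        rw [← mul_inv_rev, ← mul_inv_rev, ← mul_assoc, g3, inv_one])) (hν.eq (mdP.cj_z _)) (nQ hν) (.inl u2)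
    refine NW8a.of_rel (Q := φ.range) (y := φ (a * c)) (e' ▸ F.l3) ?_ rel ⟨_, rfl⟩ (e' ▸ zs)
      (e' ▸ fun k => absurd (F.inj k) (by decide +kernel))
    classical
    have : Nat.card (X WP φ) ≤ [1, e, e⁻¹, ν.r, ν.r * e, ν.r * e⁻¹].toFinset.card := by
      rw [← Nat.card_eq_finsetCard]
      exact Nat.card_le_card_of_injective (fun q => ⟨q.1, List.mem_toFinset.2 (hX _ q.2)⟩) fun a b e =>
        Subtype.ext (Subtype.mk.inj e)
    have := this.trans (List.toFinset_card_le _)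
    rw [e', F.cardC]
    simp only [List.length_cons, List.length_nil] at this
    omega
  exfalso
  have hL : ∀ k ∈ [1, e, e⁻¹, ν.r, ν.r * e, ν.r * e⁻¹], k ∈ X WP φ := by simp [he, hν.memX, mul_mem]
  have nc := NW8a.not_cj F fun k hk l => (k1 k (hX k hk) l).2.1
  have i2 : φ (b * d) * φ (b * d) = 1 := by
    rw [← map_mul, show b * d * (b * d) = 1 by decide +kernel, map_one]
  obtain ⟨g, g1, g2⟩ := F.ext hG (K := 𝐂₀(φ w)) (fun u v hu hv => by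
      obtain ⟨μ, k⟩ := F.exR hu
      obtain ⟨κ, k'⟩ := F.exR hv
      rcases (k1 _ (hX _ k.memX) μ.l).1 with f | f
      · exact .inl (mem_c.2 (k.comm f))
      rcases (k1 _ (hX _ k'.memX) κ.l).1 with f' | f'
      · exact .inr (.inl (mem_c.2 (k'.comm f')))
      · exact .inr (.inr (mem_c.2 ((k.mul k').comm (by
          rw [cj_mul, show cj κ w = _ from f', mdP.cj_mz, show cj μ w = _ from f, mul_assoc, F.zz, mul_one])))))
    i2 (T := φ.range ⊓ 𝐂₀(φ (b * d))) F.l3.isPGroup.to_inf_left ⟨⟨_, rfl⟩, mem_c.2 rfl⟩ fun r hr => mem_c.1 hr.2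
  have j2 : g⁻¹ * φ (b * d) * g * (g⁻¹ * φ (b * d) * g) = 1 := by
    rw [show g⁻¹ * φ (b * d) * g * (g⁻¹ * φ (b * d) * g) = g⁻¹ * (φ (b * d) * φ (b * d)) * g by group, i2]; group
  have ij : Cj (g⁻¹ * φ (b * d) * g) (φ (b * d)) := ⟨g, by group⟩
  obtain ⟨μ, hμ⟩ := F.exR (g2 _ ⟨⟨_, rfl⟩, mem_c.2 rfl⟩)
  by_cases m1 : μ.r = 1
  · obtain ⟨u, hu⟩ := (F.memQ hμ).2 m1
    rw [← hu] at g1 j2 ij
    rcases k2 u (F.inj (by rw [map_mul, map_mul]; exact mem_c.1 g1)) (F.inj (by rw [map_mul, j2, map_one]))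
      (fun f => by
        obtain ⟨k, ij⟩ := ij
        rw [f, map_one, mul_one, mul_inv_cancel, ← map_one φ] at ij
        exact absurd (F.inj ij) (by decide +kernel)) with rfl | ⟨k, hk, l, f⟩
    · exact nc ij
    · obtain ⟨g', hg'⟩ := exR_of_memX (φ := φ) (ν := (⟨l, k⟩ : SD EP WP)) (hL k hk)
      exact nc ((zs.trans ⟨g', hg'.eq f⟩).trans ij)
  obtain ⟨k3, k4⟩ := (k1 _ (hX _ hμ.memX) μ.l).2.2 m1 (F.r_sq hμ j2)
  have key : ∀ p : EP, p * (b * d) = b * d * p → ∃ u, cj μ u = u ∧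
      (g⁻¹ * φ p * g = φ u ∨ g⁻¹ * φ p * g = φ u * (g⁻¹ * φ (b * d) * g)) := fun p hp => by
    have c1 : φ p * φ (b * d) = φ (b * d) * φ p := by rw [← map_mul, hp, map_mul]
    obtain ⟨κ, hκ⟩ := F.exR (g2 _ ⟨⟨p, rfl⟩, mem_c.2 c1⟩)
    have c2 : Commute (g⁻¹ * φ p * g) (g⁻¹ * φ (b * d) * g) := by
      simpa using (show Commute (φ p) (φ (b * d)) from c1).conj g⁻¹
    generalize g⁻¹ * φ p * g = r, g⁻¹ * φ (b * d) * g = j at *
    rcases k3 _ (hX _ hκ.memX) (F.r_comm hκ hμ c2.eq) with f | f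
    · obtain ⟨u, rfl⟩ := (F.memQ hκ).2 f
      exact ⟨u, F.cj_fix hμ c2.eq.symm, .inl rfl⟩
    · obtain ⟨u, hu⟩ := (F.memQ (hκ.mul hμ.inv)).2 (by rw [mul_r, inv_r, f, mul_inv_cancel])
      exact ⟨u, F.cj_fix hμ (hu ▸ (c2.symm.mul_right (Commute.refl j).inv_right).eq), .inr (by rw [hu]; group)⟩
  obtain ⟨u, f1, f2⟩ := key b (by decide +kernel)
  obtain ⟨u', f1', f2'⟩ := key (c * a) (by decide +kernel)
  have c0 : Commute (φ u) (φ u') := (show Commute u u' from k4 u f1 u' f1').map φ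
  have c1 : Commute (g⁻¹ * φ (b * d) * g) (φ u) := hμ.comm f1
  have c2 : Commute (g⁻¹ * φ (b * d) * g) (φ u') := hμ.comm f1'
  have c3 : Commute (g⁻¹ * φ b * g) (g⁻¹ * φ (c * a) * g) := by
    rcases f2 with f | f <;> rcases f2' with f' | f' <;> rw [f, f']
    exacts [c0, c0.mul_right c1.symm, c0.mul_left c2, (c0.mul_left c2).mul_right (c1.symm.mul_left (Commute.refl _))]
  have c4 : Commute (φ b) (φ (c * a)) := by simpa [mul_assoc] using c3.conj g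
  exact absurd (F.inj (by rw [map_mul, map_mul φ (c * a)]; exact c4.eq) : b * (c * a) = c * a * b) (by decide +kernel)

end H31.X32
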