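import Cfsg.Agent.Lib.X32.Pr
import Cfsg.Agent.Lib.P43.Main
import Cfsg.Agent.S0822

/-! The case `C(z)/Q ≅ 3 × S₃` (helper31) -/

set_option autoImplicit false
set_option maxRecDepth 100000

namespace H31.X32
open H70.TM H95 Subgroup SD Cfsg H54 H27.W

variable {G : Type*} [Group G]

section
variable {E Y : Type} [Group E] [Group Y] [MulDistribMulAction Y E]

/-- the elements whose images act as prescribed -/
def actS (φ : E →* G) (θ : Y →* G) : Subgroup Y where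
  carrier := {y | ∀ u, θ y * φ u * (θ y)⁻¹ = φ (y • u)}
  one_mem' u := by rw [map_one, one_smul]; group
  mul_mem' {a b} ha hb u := by rw [mul_smul, ← ha, ← hb, map_mul]; group
  inv_mem' {a} ha u := by
    have := ha (a⁻¹ • u)
    rw [smul_inv_smul] at this
    rw [← this, map_inv]; group

theorem R.actS {W : Type} [Group W] [MulDistribMulAction W E] {φ : E →* G} {θ : Y →* G} {k : W} {g : G}
    (a : R φ g (⟨1, k⟩ : SD E W)) {y : Y} (e : θ y = g) (h : ∀ u : E, k • u = y • u) :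
    y ∈ actS φ θ := fun u => by rw [e, a, cj_inr, h]

theorem SD.top_of {K : Subgroup (SD E Y)} (h1 : K.comap inl = ⊤) (h2 : K.comap inr = ⊤) : K = ⊤ :=
  eq_top_iff.2 fun ν _ => by
    rw [show ν = inl ν.l * inr ν.r from mk_eq _ _]
    exact mul_mem (h1.ge (mem_top _)) (h2.ge (mem_top _))

theorem lift_inl {φ : E →* G} {θ : Y →* G} (h : ∀ y u, θ y * φ u * (θ y)⁻¹ = φ (y • u)) (u : E) :
    lift φ θ h (inl u) = φ u := by rw [lift_apply, inl_apply, map_one, mul_one]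

theorem lift_inr {φ : E →* G} {θ : Y →* G} (h : ∀ y u, θ y * φ u * (θ y)⁻¹ = φ (y • u)) (y : Y) :
    lift φ θ h (inr y) = θ y := by rw [lift_apply, inr_apply, map_one, one_mul]

end

theorem mod_gen {M : Type*} [Group M] {Φ : M →* G} {z : M} (h : Mod Φ z) {τ : ℕ → M} {m : ℕ}
    (e : gen τ m = ⊤) : gen (fun i => Φ (τ i)) m = 𝐂₀(Φ z) ∧
      Nat.card (gen (fun i => Φ (τ i)) m) = Nat.card M := by
  rw [← map_gen, e, ← MonoidHom.range_eq_map]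
  exact ⟨le_antisymm (by rintro _ ⟨u, rfl⟩; exact mem_c.2 (h.comm u)) fun g hg => h.ran g (mem_c.1 hg),
    (Nat.card_congr (MonoidHom.ofInjective h.inj).toEquiv).symm⟩

/-- the generators `t n a b u v d r` -/
noncomputable def t18 : ℕ → SD EP Y18.E := gv [⟨El.of _ 5, 1⟩, ⟨1, El.of _ 1⟩, ⟨El.of _ 26, El.of _ 1⟩,
  ⟨El.of _ 29, El.of _ 1⟩, ⟨El.of _ 25, 1⟩, ⟨El.of _ 22, 1⟩, ⟨1, El.of _ 2⟩, ⟨1, El.of _ 8⟩]

theorem t18_top : gen t18 8 = ⊤ := by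
  have m : ∀ {ν} (w : List ℕ), (∀ l ∈ w, l < 2 * 8) ∧ evW t18 w = ν → ν ∈ gen t18 8 :=
    fun w h => h.2 ▸ evW_mem_gen t18 h.1
  exact SD.top_of (H70.Q32.eq_top (m [4, 6, 8] (by decide +kernel)) (m [6, 10, 4] (by decide +kernel))
    (m [2, 6, 8] (by decide +kernel)) (m [2, 10, 4] (by decide +kernel)))
    (Y18.eq_top (m [2] (by decide +kernel)) (m [12] (by decide +kernel)) (m [2, 14] (by decide +kernel)))

theorem exists_F4 : ∃ (F : Type) (_ : Field F) (_ : Fintype F), Fintype.card F = 4 :=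
  have : Fact (Nat.Prime 2) := ⟨Nat.prime_two⟩
  ⟨GaloisField 2 2, inferInstance, Fintype.ofFinite _, by
    rw [← @Nat.card_eq_fintype_card, GaloisField.card 2 2 (by norm_num)]; rfl⟩

namespace Fr
variable {φ : EP →* G} (F : Fr WP φ zP)
include F
open W72

omit F in
theorem rinr {g h : G} {k l : WP} (a : R φ g (⟨1, k⟩ : SD EP WP)) (b : R φ h (⟨1, l⟩ : SD EP WP)) :
    R φ (g * h * g⁻¹) (⟨1, k * l * k⁻¹⟩ : SD EP WP) :=
  (a.conj b).of_eq (by rw [← inr_apply, ← inr_apply, ← map_inv, ← map_mul, ← map_mul, inr_apply])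

theorem cj3 {g h j : G} {k l m : WP} (a : R φ g (⟨1, k⟩ : SD EP WP)) (b : R φ h (⟨1, l⟩ : SD EP WP))
    (c : R φ j (⟨1, m⟩ : SD EP WP)) (h3 : h * h * h = 1) (j3 : j * j * j = 1) (e : k * l * k⁻¹ = m) :
    g * h * g⁻¹ = j := F.eq3 (e ▸ rinr a b) c (by rw [conj_mul, conj_mul, h3]; group) j3

omit F in
theorem rinv {g : G} {k : WP} (a : R φ g (⟨1, k⟩ : SD EP WP)) : R φ g⁻¹ (⟨1, k⁻¹⟩ : SD EP WP) :=
  a.inv.of_eq (map_inv (inr : WP →* SD EP WP) k).symm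

omit F in
theorem inv3 {g : G} (h : g * g * g = 1) : g⁻¹ * g⁻¹ * g⁻¹ = 1 := by
  rw [← mul_inv_rev, ← mul_inv_rev, ← mul_assoc, h, inv_one]

/-- the lifts of the elements of order 3 -/
theorem exists_de {n : G} (n2 : n * n = 1) (a : R φ n (⟨1, s⟩ : SD EP WP))
    (h9 : x ∈ X WP φ ∧ y ∈ X WP φ) : ∃ d e, R φ d (⟨1, x * y⟩ : SD EP WP) ∧
      R φ e (⟨1, x * y⁻¹⟩ : SD EP WP) ∧ Y18.Rel n d e := by
  obtain ⟨_, h1⟩ := mul_mem h9.1 h9.2
  obtain ⟨_, h2⟩ := mul_mem h9.1 (inv_mem h9.2)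
  obtain ⟨d, hd, d3⟩ := F.ex3 h1 (by decide +kernel)
  obtain ⟨e, he, e3⟩ := F.ex3 h2 (by decide +kernel)
  refine ⟨d, e, hd, he, n2, d3, e3,
    mul_inv_eq_iff_eq_mul.1 (F.cj3 hd he he e3 e3 (by decide +kernel)),
    mul_inv_eq_iff_eq_mul.1 (F.cj3 a hd hd d3 d3 (by decide +kernel)), ?_⟩
  have := F.cj3 a he (rinv he) e3 (inv3 e3) (by decide +kernel)
  rwa [inv_eq_of_mul_eq_one_right n2] at this

theorem u42 [Finite G] (hG : ∀ N : Subgroup G, N.index ≠ 2) {n : G}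
    (n2 : n * n = 1) (a : R φ n (⟨1, W72.s⟩ : SD EP WP)) (h9 : W72.x ∈ X WP φ ∧ W72.y ∈ X WP φ)
    (hX : ∀ k ∈ X WP φ, k * k * k = 1 ∨ k * W72.s * (k * W72.s) * (k * W72.s) = 1) :
    ∃ (F : Type) (_ : Field F) (_ : Fintype F), Fintype.card F = 4 ∧ Nonempty (G ≃* PSU 4 F 2) := by
  obtain ⟨d, e, hd, he, r⟩ := F.exists_de n2 a h9
  obtain ⟨θ, e1, e2, e3⟩ := Y18.model r
  have h := (Y18.eq_top (K := actS φ θ) (a.actS e1 (by decide +kernel)) (hd.actS e2 (by decide +kernel))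
    (he.actS e3 (by decide +kernel))).ge
  obtain ⟨Φ, M⟩ : ∃ Φ : SD EP Y18.E →* G, Mod Φ (inl zP) :=
    ⟨_, F.mod (fun y => h (mem_top y)) (by decide +kernel) fun k hk =>
    (by decide +kernel : ∀ k : WP, k * k * k = 1 ∨ k * s * (k * s) * (k * s) = 1 →
      ∃ y : Y18.E, ∀ u : EP, k • u = y • u) k (hX k hk)⟩
  obtain ⟨g1, g2⟩ := mod_gen M t18_top
  have cs : H63.P43.CS fun i => Φ (t18 i) := ⟨(hom_of_bnd H63.P43.bndC H63.P43.p_relsC (by decide +kernel)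
    H63.P43.chC_card (Rels.map Φ (show ∀ w ∈ H63.P43.RC, evW t18 w = 1 by decide +kernel))).emb_of_card
    (by rw [g2, SD.card, H70.Q32.card, Y18.card, H63.P43.cardC]), g1⟩
  obtain ⟨f⟩ := H63.P43.equiv_of_cs cs hG (ZMod.card 3)
  obtain ⟨K, i1, i2, hK⟩ := exists_F4
  exact ⟨K, i1, i2, hK, ⟨f.trans (Cfsg.Agent.S0822.result hK (ZMod.card 3)).some.symm⟩⟩

end Fr

theorem eqns_u42 : True := by
  have := @actS.eq_1.{0}
  have := @t18.eq_1
  trivial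

end H31.X32
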