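import Cfsg.Agent.Lib.M12C.Mod
/-! The local argument for `L₄(3)`: the element `X` inverts `ρ`; the subgroup `K` is the whole group (helper80) -/
set_option autoImplicit false
namespace H80.L43
open Subgroup H69 H70 H70.TM

variable {G : Type*} [Group G]

/-- `g` is conjugate to `s` in `K` -/
def CK (K : Subgroup G) (s g : G) : Prop := ∃ k ∈ K, k * s * k⁻¹ = g

theorem CK.refl (K : Subgroup G) (s : G) : CK K s s := ⟨1, one_mem _, by simp⟩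

theorem CK.trans {K : Subgroup G} {s g u : G} (h : CK K s g) (h' : CK K g u) : CK K s u :=
  let ⟨_, m, e⟩ := h; let ⟨_, m', e'⟩ := h'; ⟨_, mul_mem m' m, cj_trans e e'⟩

theorem CK.cj {K : Subgroup G} {s g : G} (h : CK K s g) : Cj s g := let ⟨k, _, e⟩ := h; ⟨k, e⟩

theorem CK.cent_le {K : Subgroup G} {s g : G} (h : CK K s g) (hs : 𝐂₀(s) ≤ K) : 𝐂₀(g) ≤ K :=
  let ⟨_, m, e⟩ := h; e ▸ cent_le_cj m hs

/-- the Z-star theorem modulo the central involution `j` -/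
theorem zq4 [Finite G] {K : Subgroup G} {j ρ a b : G} (hj : ∀ g, g * j = j * g) (j2 : j * j = 1)
    (jK : j ∈ K) (h2 : ∀ e ∈ [ρ, a, b, a * b], (e * e = 1 ∨ e * e = j) ∧ e ≠ 1 ∧ e ≠ j ∧
      ∀ g, g * e * g⁻¹ = e ∨ g * e * g⁻¹ = e * j → g ∈ K) (ab : a * b = b * a)
    (iso : ∀ g, g * ρ * g⁻¹ ∈ K → g * ρ * g⁻¹ = ρ ∨ g * ρ * g⁻¹ = ρ * j) : K = ⊤ := by
  have hn : (zpowers j).Normal := ⟨by
    rintro _ ⟨k, rfl⟩ g
    exact ⟨k, by rw [← conj_zpow, hj g, mul_inv_cancel_right]⟩⟩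
  let π := QuotientGroup.mk' (zpowers j)
  have mz : ∀ u, u ∈ zpowers j ↔ u = 1 ∨ u = j := fun u => ⟨by
    rintro ⟨k, rfl⟩
    have : j ^ (2 : ℤ) = 1 := by rw [zpow_two, j2]
    rcases Int.even_or_odd' k with ⟨i, rfl | rfl⟩ <;> simp only [zpow_add, zpow_mul, this] <;> simp, by
    rintro (rfl | rfl)
    exacts [one_mem _, mem_zpowers _]⟩
  have mk : ∀ u v, π u = π v ↔ v = u ∨ v = u * j := fun u v => by
    rw [QuotientGroup.mk'_apply, QuotientGroup.mk'_apply, QuotientGroup.eq, mz, inv_mul_eq_one,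
      inv_mul_eq_iff_eq_mul, eq_comm]
  have o : ∀ e ∈ [ρ, a, b, a * b], orderOf (π e) = 2 := fun e he => by
    obtain ⟨e1, e2, e3, -⟩ := h2 e he
    refine ord2 ?_ fun e4 => ?_
    · rw [← map_mul, ← map_one π, eq_comm, mk, one_mul]; exact e1
    · rw [← map_one π, eq_comm, mk, one_mul] at e4; exact e4.elim e2 e3
  have cm : ∀ g e, π g * π e = π e * π g → g * e * g⁻¹ = e ∨ g * e * g⁻¹ = e * j := fun g e hg =>
    (mk _ _).1 (by rw [map_mul, map_mul, hg, map_inv, mul_inv_cancel_right])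
  have c : ∀ e ∈ [ρ, a, b, a * b], 𝐂₀(π e) ≤ K.map π := fun e he g' hg => by
    obtain ⟨g, rfl⟩ := QuotientGroup.mk'_surjective _ g'
    exact mem_map_of_mem _ ((h2 e he).2.2.2 g (cm g e (mem_c.1 hg)))
  have z := H73.centralizer_sup_oddCore_eq_top' (o ρ (by simp)) fun g' hg => by
    obtain ⟨g, rfl⟩ := QuotientGroup.mk'_surjective _ g'
    change Commute (π g * _ * (π g)⁻¹) _ at hg
    change π g * _ * (π g)⁻¹ = _
    rw [← map_inv, ← map_mul, ← map_mul] at hg ⊢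
    exact ((mk _ _).2 (iso g ((h2 ρ (by simp)).2.2.2 _ (cm _ _ hg.eq)))).symm
  have t : K.map π = ⊤ := by
    rw [eq_top_iff, ← z, sup_le_iff]
    refine ⟨c ρ (by simp), le_of_four (o a (by simp)) (o b (by simp))
      (by rw [← map_mul, ab, map_mul]) (fun e => ?_) (Nat.coprime_two_right.2 H1.odd_card_oddCore)
      (by simp [normalizer_eq_top]) (by simp [normalizer_eq_top]) (inf_le_right.trans (c a (by simp)))
      (inf_le_right.trans (c b (by simp))) (inf_le_right.trans (map_mul π a b ▸ c _ (by simp)))⟩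
    exact ne_one_of_ord2 (o (a * b) (by simp))
      (by rw [map_mul, e, mul_self_of_ord2 (o b (by simp))])
  refine eq_top_iff.2 fun g _ => ?_
  obtain ⟨k, hk, e⟩ := t.ge (mem_top (π g))
  rcases (mk _ _).1 e with rfl | rfl
  exacts [hk, mul_mem hk jK]

/-- the facts about `C(z)` and the classes of involutions -/
structure Loc (K : Subgroup G) (z j a b c t w ρ X : G) : Prop where
  n1 : ¬ Cj z j
  cz : 𝐂₀(z) ≤ K
  z2 : z * z = 1
  z1 : z ≠ 1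
  j1 : j ≠ 1
  j2 : j * j = 1
  rr : ρ * ρ = j
  rz : ρ * z = z * ρ
  az : a * z = z * a
  kz : c * z = z * c
  tz : t * z = z * t
  a2 : a * a = 1
  b2 : b * b = 1
  w2 : w * w = 1
  ab : a * b = z * j
  ba : a * b = b * a
  ar : a * ρ = ρ * a
  br : b * ρ = ρ * b
  cr : c * ρ = ρ * c
  tr : t * ρ * t⁻¹ = ρ * j
  wj : w * j = j * w
  wc : w * c = c * w
  wz : w * (z * c) = z * c * w
  wt : w * t ≠ t * w
  r0 : w * t * c = ρ
  r1 : w * c * (t * c) * c = ρ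
  r2 : w * c * j * (t * c) * c = ρ * j
  X2 : X * X = 1
  Xj : X * j * X⁻¹ = j
  Xc : X * c * X⁻¹ = c
  Xt : X * t * X⁻¹ = t * c
  Xz : X * (z * c) * X⁻¹ = z
  Xe : X * (z * j * c) * X⁻¹ = z * j
  Ta : CK K z a
  Tb : CK K z b
  Tw : CK K z (w * (z * j * c))
  Jw : CK K j w
  Je : CK K j (z * j)
  Ja : CK K j (a * j)
  Jb : CK K j (b * j)
  JX : CK K j X
  JY : CK K j (X * j)
  k1 : ∀ g, g * z = z * g → g * g = 1 → g = 1 ∨ CK K z g ∨ CK K j g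
  k2 : ∀ g, g * z = z * g → g * g = 1 → g * j = j * g → g * c = c * g →
    g * (t * c) = t * c * g ∨ g = w * c ∨ g = w * c * j ∨ CK K j (g * (z * j)) ∨ CK K z g
  k3 : ∀ g, g * z = z * g → g * j = j * g → g ^ 2 ^ 2 = 1
  k4 : ∀ g, g * z = z * g → g * g = 1 → g * ρ = ρ * g → g * a = a * g → g * c = c * g →
    g = 1 ∨ g = z ∨ g = j ∨ g = z * j
  k5 : ∀ g, g * z = z * g → g * g = 1 → g * ρ = ρ * g → g = 1 ∨ g = j ∨ CK K z g ∨ CK K z (g * j)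

namespace Loc
variable {K : Subgroup G} {z j a b c t w ρ X : G} (h : Loc K z j a b c t w ρ X)
include h

theorem excl {g : G} (h1 : Cj z g) (h2 : Cj j g) : False := h.n1 (h1.trans h2.symm)

theorem cj_of {g : G} (e : g * ρ = ρ * g) : g * j = j * g := h.rr ▸ comm_mul e e

theorem isP : IsPGroup 2 (𝐂₀(z) ⊓ 𝐂₀(ρ) : Subgroup G) :=
  isP_of_pow 2 fun g hg => h.k3 g (mem_c.1 hg.1) (h.cj_of (mem_c.1 hg.2))

theorem norm {T : Subgroup G} (h1 : 𝐂₀(z) ⊓ 𝐂₀(ρ) ≤ T) (h2 : T ≤ 𝐂₀(z)) : 𝐍(T) ≤ 𝐂₀(z) := fun n hn => by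
  have k : ∀ s, s * z = z * s → s * ρ = ρ * s → n * z * n⁻¹ * s = s * (n * z * n⁻¹) := fun s e1 e2 => by
    have := cj_comm n (mem_c.1 (h2 ((mem_normalizer_iff.1 (inv_mem hn) s).1 (h1 ⟨mem_c.2 e1, mem_c.2 e2⟩))))
    rw [show n * (n⁻¹ * s * n⁻¹⁻¹) * n⁻¹ = s by group] at this
    exact this.symm
  rcases h.k4 _ (k z rfl h.rz.symm) (Cj.sq ⟨n, rfl⟩ h.z2) (k ρ h.rz rfl) (k a h.az h.ar)
    (k c h.kz h.cr) with e | e | e | e
  · exact absurd e (Cj.ne ⟨n, rfl⟩ h.z1)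
  · exact mem_c.2 (cj_eq_iff'.1 e)
  · exact absurd ⟨n, e⟩ h.n1
  · exact (h.excl ⟨n, e⟩ h.Je.cj).elim

variable [Finite G]

theorem inv_rho : X * ρ * X⁻¹ = ρ * j := by
  have e : X * ρ * X⁻¹ = X * w * X⁻¹ * (t * c) * c := by
    rw [← h.r0, ← conj_mul, ← conj_mul, h.Xt, h.Xc]
  rcases h.k2 (X * w * X⁻¹) (h.Xz ▸ cj_comm X h.wz) (Cj.sq ⟨X, rfl⟩ h.w2) (h.Xj ▸ cj_comm X h.wj)
    (h.Xc ▸ cj_comm X h.wc) with e1 | e1 | e1 | e1 | e1
  · rw [← h.Xt] at e1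
    exact absurd (comm_of_cj e1) h.wt
  · exfalso
    rw [e1, h.r1] at e
    obtain ⟨k, hk, m⟩ := exists_cj_mem2 (sylow_of_norm h.isP inf_le_right fun g hg hn =>
      ⟨h.norm le_rfl inf_le_left hn, hg⟩) (mem_c.2 (cj_eq_iff'.1 e)) h.X2
    have kj := cj_eq_iff'.2 (h.cj_of (mem_c.1 hk))
    have e2 : k * X * k⁻¹ * j = k * (X * j) * k⁻¹ := by rw [← conj_mul, kj]
    rcases h.k5 _ (mem_c.1 m.1) (Cj.sq ⟨k, rfl⟩ h.X2) (mem_c.1 m.2) with e3 | e3 | e3 | e3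
    · exact (h.JX.cj.cj k).ne h.j1 e3
    · exact (h.JY.cj.cj k).ne h.j1 (by rw [← e2, e3, h.j2])
    · exact h.excl e3.cj (h.JX.cj.cj k)
    · exact h.excl (e2 ▸ e3.cj) (h.JY.cj.cj k)
  · rw [e, e1, h.r2]
  · rw [← h.Xe, conj_mul] at e1
    exact (h.excl (h.Tw.cj.cj X) e1.cj).elim
  · exact (h.excl e1.cj (h.Jw.cj.cj X)).elim

theorem eq_top (hρ : 𝐂₀(ρ) ≤ K)
    (kL : ∀ g ∈ K, g * j = j * g → g * ρ = ρ * g ∨ g * ρ = ρ * j * g) : K = ⊤ := by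
  obtain ⟨S, hS, le⟩ := exists_isSylowIn_le h.isP inf_le_left
  have hN := h.norm le hS.le
  have hS' : IsSylowIn 2 S ⊤ := isSylowIn_of_normalizer le_top
    (hS.mono (le_inf le_top le_normalizer) (inf_le_right.trans hN))
  have hK : IsSylowIn 2 S K := hS'.mono (hS.le.trans h.cz) le_top
  have inv : ∀ i ∈ K, i * i = 1 → i = 1 ∨ CK K z i ∨ CK K j i := fun i hi i2 => by
    obtain ⟨k, hk, m⟩ := exists_cj_mem2 hK hi i2
    have b : CK K (k * i * k⁻¹) i := ⟨_, inv_mem hk, cj_symm rfl⟩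
    exact (h.k1 _ (mem_c.1 (hS.le m)) (Cj.sq ⟨k, rfl⟩ i2)).imp conj_eq_one_iff.1
      (Or.imp (·.trans b) (·.trans b))
  have key : ∀ g, g * z * g⁻¹ ∈ K → g ∈ K := fun g hg => by
    rcases inv _ hg (Cj.sq ⟨g, rfl⟩ h.z2) with e | ⟨m, hm, e⟩ | e
    · exact absurd e (Cj.ne ⟨g, rfl⟩ h.z1)
    · exact (mul_mem_cancel_left (inv_mem hm)).1
        (h.cz (mem_c.2 (cj_eq_iff'.1 (cj_trans rfl (cj_symm e)))))
    · exact (h.excl ⟨g, rfl⟩ e.cj).elim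
  have iso : ∀ g, g * ρ * g⁻¹ ∈ K → g ∈ K := fun g hg => by
    obtain ⟨k, hk, m⟩ := exists_cj_mem hK hg (k := 2)
      (by rw [conj_pow, h.k3 ρ h.rz (h.cj_of rfl), mul_one, mul_inv_cancel])
    have := cj_comm (k * g)⁻¹ (mem_c.1 (hS.le m))
    rw [cj_symm (cj_trans rfl rfl)] at this
    exact (mul_mem_cancel_left hk).1 (inv_mem_iff.1 (key _ (hρ (mem_c.2 this.symm))))
  have zj : z * j = j * z := h.cj_of h.rz.symm
  have jK : j ∈ K := h.cz (mem_c.2 zj.symm)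
  have cT : ∀ e, CK K z e → CK K j (e * j) → e * e = 1 → (e * e = 1 ∨ e * e = j) ∧ e ≠ 1 ∧ e ≠ j ∧
      ∀ g, g * e * g⁻¹ = e ∨ g * e * g⁻¹ = e * j → g ∈ K := fun e e1 e2 e3 =>
    ⟨.inl e3, e1.cj.ne h.z1, fun e4 => h.n1 (e4 ▸ e1.cj), fun g hg => hg.elim
      (fun hg => e1.cent_le h.cz (mem_c.2 (cj_eq_iff'.1 hg)))
      fun hg => (h.excl (hg ▸ e1.cj.cj g) e2.cj).elim⟩
  have hj : 𝐂₀(j) ≤ K := by
    rw [← subgroupOf_eq_top]
    refine zq4 (G := 𝐂₀(j)) (j := ⟨j, mem_c.2 rfl⟩) (ρ := ⟨ρ, mem_c.2 (h.cj_of rfl)⟩)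
      (a := ⟨a, mem_c.2 (h.cj_of h.ar)⟩) (b := ⟨b, mem_c.2 (h.cj_of h.br)⟩)
      (fun g => Subtype.ext (mem_c.1 g.2)) (Subtype.ext h.j2) jK ?_ (Subtype.ext h.ba) fun g hg => ?_
    · have ej : z * j * j = z := by rw [mul_assoc, h.j2, mul_one]
      simp only [List.forall_mem_cons, List.not_mem_nil, false_imp_iff, implies_true, and_true, ne_eq,
        Subtype.ext_iff, mem_subgroupOf, coe_mul, coe_one, coe_inv, h.ab]
      refine ⟨⟨.inr h.rr, fun e => h.j1 ?_, fun e => h.j1 ?_, fun g hg => ?_⟩,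
        (cT a h.Ta h.Ja h.a2).imp_right (And.imp_right (And.imp_right fun e g => e g)),
        (cT b h.Tb h.Jb h.b2).imp_right (And.imp_right (And.imp_right fun e g => e g)),
        .inl (h.Je.cj.sq h.j2), h.Je.cj.ne h.j1, fun e => h.z1 (by simpa using e), fun g hg => ?_⟩
      · rw [← h.rr, e, one_mul]
      · rw [← h.rr, e, h.j2]
      · rcases hg with hg | hg
        · exact hρ (mem_c.2 (cj_eq_iff'.1 hg))
        · exact (mul_mem_cancel_left (inv_mem (h.cz (mem_c.2 h.tz)))).1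
            (hρ (mem_c.2 (cj_eq_iff'.1 (cj_trans hg (cj_symm h.tr)))))
      · rcases hg with hg | hg
        · exact h.cz (mem_c.2 (ej ▸ comm_mul (cj_eq_iff'.1 hg) (mem_c.1 g.2)))
        · exact (h.n1 (hg.trans ej ▸ h.Je.cj.cj g : Cj j z).symm).elim
    · exact (kL g (iso g hg) (mem_c.1 g.2)).imp (fun e => Subtype.ext (cj_eq_iff'.2 e))
        fun e => Subtype.ext (mul_inv_eq_iff_eq_mul.2 e)
  refine eq_top_of_cent hS' (hN.trans h.cz) (fun u hu u2 => ?_) (ord2 h.z2 h.z1) hS.le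
    (le ⟨mem_c.2 zj.symm, mem_c.2 (h.cj_of rfl).symm⟩) (ord2 h.j2 h.j1) fun g e => h.n1 ⟨g, e⟩
  rcases inv u (h.cz (hS.le hu)) (mul_self_of_ord2 u2) with e | e | e
  exacts [absurd e (ne_one_of_ord2 u2), e.cent_le h.cz, e.cent_le hj]

end Loc

end H80.L43
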