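import Cfsg.Agent.Lib.X32.EndModel
import Cfsg.Agent.Lib.X32.EndLoc
/-! Transfer of the facts of the model of `L₄(3)` (helper80) -/
set_option autoImplicit false
set_option maxRecDepth 100000
namespace H80.L43
open H54 H27.W Subgroup H31.L43 H70.TM

variable {G : Type*} [Group G] [Finite G] {x : ℕ → G}

/-- the equations hold in the model of `2⁴:S₅` -/
noncomputable def okN (L : List (List ℕ × List ℕ)) : Bool :=
  band (wfA 9 L) (band (wfA 11 (L.map (subA E1))) (allL (eqNet cfg pN.get) (L.map (subA E1))))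

theorem eqsN {y : ℕ → G} (hy : Rels RN y) (L : List (List ℕ × List ℕ)) (e : okN L = true) :
    ∀ a ∈ L, At y a := by
  rw [okN, band_eq_true] at e
  exact (hom_of_bnd bndN p_relsN (by decide +kernel) chN_card hy).eqs (eqs_sub p_wm e.2) e.1

def dn (w : List ℕ) : List ℕ := w.map fun l => if l < 14 then l else l - 2

omit [Finite G] in
theorem rels1 (h : Rels R0 x) : Rels RN (sub x E1) := rels_sub (h.of_subL (by decide +kernel))

theorem eqs1 (h : Rels R0 x) (L : List (List ℕ × List ℕ))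
    (e : band (allL (fun a => band (eqL (subW E1 (dn a.1)) a.1) (eqL (subW E1 (dn a.2)) a.2)) L)
      (okN (L.map fun a => (dn a.1, dn a.2))) = true) : ∀ a ∈ L, At x a := fun a ha => by
  rw [band_eq_true, allL_iff] at e
  have := at_sub.1 (eqsN (rels1 h) _ e.2 _ (List.mem_map_of_mem ha))
  have e1 := (band_eq_true _ _).1 (e.1 a ha)
  rwa [At, subA, eq_of_eqL _ _ e1.1, eq_of_eqL _ _ e1.2] at this

theorem homC (h : Rels R0 x) : Hom p x 9 :=
  hom_of_bnd bndC9 p_relsC (by decide +kernel) chC_card (h.of_subL (by decide +kernel))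

theorem eqsC (h : Rels R0 x) (L : List (List ℕ × List ℕ))
    (e : band (wfA 9 L) (allL (eqNet cfg pN.get) L) = true) : ∀ a ∈ L, At x a :=
  (homC h).eqs (p_wm9.eqs e) ((band_eq_true _ _).1 e).1

theorem rels2 (h : Rels R0 x) : Rels RN (sub x E2) :=
  rels_sub ((h.append ((homC h).rels (R := RB1.map (subW E2)) (p_wm9.rels (by decide +kernel))
    (by decide +kernel))).of_subL (by decide +kernel))

theorem ckN {E : List (List ℕ)} (hy : Rels RN (sub x E)) (k s u s0 u0 : List ℕ)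
    (e : band (band (wfL 11 [subW E k]) (okN [(k ++ s, u ++ k)]))
      (band (eqL (subW E s) s0) (eqL (subW E u) u0)) = true) :
    CK (gen x 11) (evW x s0) (evW x u0) := by
  simp only [band_eq_true] at e
  have := eqsN hy _ e.1.2 _ List.mem_cons_self
  rw [At, evW_append, evW_append, evW_sub, evW_sub, evW_sub, eq_of_eqL _ _ e.2.1, eq_of_eqL _ _ e.2.2] at this
  exact ⟨_, evW_mem_gen x (wfL_spec e.1.1 List.mem_cons_self), mul_inv_eq_iff_eq_mul.2 this⟩

theorem ckC (h : Rels R0 x) : ∀ a ∈ LT ++ LJ, CK (gen x 11) (evW x a.2.2) (evW x a.1) := fun a ha => by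
  have := eqsC h ((LT ++ LJ).map fun a => (a.2.1 ++ a.2.2, a.1 ++ a.2.1)) (by decide +kernel) _
    (List.mem_map_of_mem ha)
  rw [At, evW_append, evW_append] at this
  exact ⟨_, evW_mem_gen x (wfL_spec (E := (LT ++ LJ).map fun a => a.2.1) (by decide +kernel)
    (List.mem_map_of_mem ha)), mul_inv_eq_iff_eq_mul.2 this⟩

theorem clsT (h : Rels R0 x) : ∀ s ∈ repT, CK (gen x 11) (evW x wz) (evW x s) := by
  have t := ckN (rels2 h) [16] [0] [2] wz [0, 16] (by decide +kernel)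
  simp only [repT, List.forall_mem_cons, List.not_mem_nil, false_imp_iff, implies_true, and_true]
  exact ⟨.refl _ _, ckN (rels1 h) [16] [0] [2] wz [2] (by decide +kernel), t,
    t.trans (ckN (rels1 h) [16] [0, 14] [2, 14] _ [2, 16] (by decide +kernel))⟩

theorem clsJ (h : Rels R0 x) : ∀ s ∈ repJ, CK (gen x 11) (evW x wj) (evW x s) := by
  simp only [repJ, List.forall_mem_cons, List.not_mem_nil, false_imp_iff, implies_true, and_true]
  exact ⟨.refl _ _, (ckC h ([4, 6, 8, 10, 16, 0, 8, 10, 16], [8], wj) (by decide +kernel)).trans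
    (ckN (rels2 h) (dn wh) wj [0, 2] _ _ (by decide +kernel)),
    ckN (rels1 h) (dn wh) wj [0, 2] _ _ (by decide +kernel)⟩

theorem clsLT (h : Rels R0 x) : ∀ a ∈ LT, CK (gen x 11) (evW x wz) (evW x a.1) := fun a ha =>
  (clsT h _ ((by decide +kernel : ∀ a ∈ LT, a.2.2 ∈ repT) a ha)).trans
    (ckC h a (List.mem_append_left _ ha))

theorem clsLJ (h : Rels R0 x) : ∀ a ∈ LJ, CK (gen x 11) (evW x wj) (evW x a.1) := fun a ha =>
  (clsJ h _ ((by decide +kernel : ∀ a ∈ LJ, a.2.2 ∈ repJ) a ha)).trans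
    (ckC h a (List.mem_append_right _ ha))

omit [Finite G] in
theorem eX : evW x wh * evW x wX * (evW x wh)⁻¹ = x 10 := by simp [wX, evW_invA, xl]

omit [Finite G] in
theorem eD : evW x wh * evW x wD * (evW x wh)⁻¹ = x 6 := by simp [wD, evW_invA, xl]

/-- the action of `X`, in the words of the centraliser and in the twisted words -/
def LX : List ((List ℕ × List ℕ) × List ℕ × List ℕ) :=
  [((wj, wj), [14], [14]), ((wc, wc), [0, 2], [0, 2]), ((wt, wt ++ wc), [0], [2]),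
    ((wz ++ wc, wz), [14, 2, 4, 6], [14, 0, 4, 6]), ((wz ++ wj ++ wc, wz ++ wj), [2, 4, 6], [0, 4, 6]),
    ((wz ++ wj, wz ++ wj ++ wc), [0, 4, 6], [2, 4, 6])]

theorem actX (h : Rels R0 x) : ∀ a ∈ LX, evW x wX * evW x a.1.1 * (evW x wX)⁻¹ = evW x a.1.2 :=
  fun a ha => by
  have e1 := eqs1 h (LX.map fun a => (wh ++ a.1.1, subW E2 a.2.1 ++ wh)) (by decide +kernel) _
    (List.mem_map_of_mem ha)
  have e2 := eqs1 h (LX.map fun a => (wh ++ a.1.2, subW E2 a.2.2 ++ wh)) (by decide +kernel) _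
    (List.mem_map_of_mem ha)
  have e3 := eqsN (rels2 h) (LX.map fun a => ([16] ++ a.2.1, a.2.2 ++ [16])) (by decide +kernel) _
    (List.mem_map_of_mem ha)
  have e4 : evW x (subW E2 [16]) = x 10 := mul_one _
  simp only [At, evW_append, evW_sub, e4] at e1 e2 e3
  rw [← mul_inv_eq_iff_eq_mul] at e1 e2 e3
  rw [← eX (x := x), ← e1, ← e2] at e3
  rw [← cj_symm (g := evW x wh) (a := evW x a.1.2) rfl, ← e3]
  group

theorem clk (emb : Emb p x 9) {N P : List (List ℕ × List ℕ)} {I : List (List ℕ × List ℕ × List ℕ)}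
    (cl : Cl (gen p 9) p 9 N (P ++ cjT 9 I))
    (wf : band (band (wfA 10 N) (wfA 10 (P ++ cjT 9 I)))
      (band (wfL 9 (I.map cjW)) (wfL 11 (I.map fun a => a.2.1))) = true) {g : G} (hg : g ∈ gen x 9)
    (hN : ∀ a ∈ N, At (upd x 9 g) a) : (∃ a ∈ P, At (upd x 9 g) a) ∨ ∃ b ∈ I,
      evW x b.2.1 * evW x b.2.2 * (evW x b.2.1)⁻¹ = g * evW x b.1 ∧
        CK (gen x 11) (evW x b.2.2) (g * evW x b.1) := by
  rw [band_eq_true, band_eq_true (wfL _ _)] at wf
  obtain ⟨a, ha, e⟩ := emb.cl le_rfl cl wf.1 g hg hN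
  refine (List.mem_append.1 ha).imp (fun ha => ⟨a, ha, e⟩) fun ha => ?_
  obtain ⟨b, hb, e⟩ := at_cjT wf.2.1 ha e
  exact ⟨b, hb, e, _, evW_mem_gen x (wfL_spec wf.2.2 (List.mem_map_of_mem hb)), e⟩

theorem loc (h : Rels R0 x) (emb : Emb p x 9) (hC : gen x 9 = centralizer {x 0})
    (n1 : ∀ g, g * x 0 * g⁻¹ ≠ x 0 * x 1) : Loc (gen x 11) (evW x wz) (evW x wj) (evW x wa) (evW x wb)
      (evW x wc) (evW x wt) (evW x ww) (evW x wr) (evW x wX) := by
  have ez : evW x wz = x 0 := mul_one _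
  have mc : ∀ {g}, g * evW x wz = evW x wz * g → g ∈ gen x 9 := fun e => by
    rw [hC, ← ez]; exact mem_c.2 e
  have q := eqsC h [(wz ++ wz, []), (wj ++ wj, []), (wr ++ wr, wj), (wr ++ wz, wz ++ wr),
    (wa ++ wz, wz ++ wa), (wc ++ wz, wz ++ wc), (wt ++ wz, wz ++ wt), (wa ++ wa, []), (wb ++ wb, []),
    (ww ++ ww, []), (wa ++ wb, wz ++ wj), (wa ++ wb, wb ++ wa), (wa ++ wr, wr ++ wa),
    (wb ++ wr, wr ++ wb), (wc ++ wr, wr ++ wc), (wt ++ wr, wr ++ wj ++ wt), (ww ++ wj, wj ++ ww),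
    (ww ++ wc, wc ++ ww), (ww ++ (wz ++ wc), wz ++ wc ++ ww), (ww ++ wt ++ wc, wr),
    (ww ++ wc ++ (wt ++ wc) ++ wc, wr), (ww ++ wc ++ wj ++ (wt ++ wc) ++ wc, wr ++ wj)]
    (by decide +kernel)
  have n := emb.nes (p_wm9.nes (L := [(wz, []), (wj, []), (ww ++ wt, wt ++ ww)]) (by decide +kernel))
    (by decide +kernel)
  have a := actX h
  have t := clsLT h
  have j := clsLJ h
  simp only [List.forall_mem_cons, At, evW_append, evW_nil, List.not_mem_nil, false_imp_iff,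
    implies_true, and_true, LX, LT, LJ] at q n a t j
  obtain ⟨q1, q2, q3, q4, q5, q6, q7, q8, q9, q10, q11, q12, q13, q14, q15, q16, q17, q18, q19, q20,
    q21, q22⟩ := q
  have hH : evW x wh ∈ gen x 11 := evW_mem_gen x (by decide)
  have e0 : evW x [0, 2] = x 0 * x 1 := by simp [xl]
  have ej : evW x wh * evW x wj * (evW x wh)⁻¹ = x 0 * x 1 := by
    have := eqs1 h [(wh ++ wj, [0, 2] ++ wh)] (by decide +kernel) _ List.mem_cons_self
    rw [At, evW_append, evW_append, e0] at this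
    exact mul_inv_eq_iff_eq_mul.2 this
  have x2 : x 10 * x 10 = 1 := by simpa [xl] using h [20, 20] (by decide)
  have s2 : ∀ {g : G} {L : List (List ℕ)}, wfL 9 L = true → g * g = 1 →
      (∀ w ∈ L, g * evW x w = evW x w * g) → ∀ a ∈ ([18, 18], []) :: cmA 9 L, At (upd x 9 g) a :=
    fun wf g2 e => List.forall_mem_cons.2 ⟨by simp [At, xl, upd, g2], (at_cmA x _ wf).2 e⟩
  refine ⟨fun ⟨g, e⟩ => n1 _ (ej ▸ ez ▸ cj_trans e rfl), fun g hg => gen_mono x (by omega) (mc (mem_c.1 hg)),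
    q1, n.1, n.2.1, q2, q3, q4, q5, q6, q7, q8, q9, q10, q11, q12, q13, q14, q15,
    mul_inv_eq_iff_eq_mul.2 q16, q17, q18, q19, n.2.2, q20, q21, q22, Cj.sq ⟨_, cj_symm eX⟩ x2,
    a.1, a.2.1, a.2.2.1, a.2.2.2.1, a.2.2.2.2.1, t.1, t.2.1, t.2.2, j.1, j.2.1, j.2.2.1, j.2.2.2.1,
    (j.2.2.2.2.2.trans (ckN (rels2 h) K1 [8] [16] _ [20] (by decide +kernel))).trans
      ⟨_, inv_mem hH, cj_symm (eX.trans (mul_one _).symm)⟩,
    ((clsJ h [0, 2] (by decide)).trans
      (ckN (rels2 h) K2 [14] [16, 14] _ ([20] ++ [0, 2]) (by decide +kernel))).trans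
      ⟨_, inv_mem hH, cj_symm (by rw [← conj_mul, eX, ej, evW_append, e0]; simp [xl])⟩,
    fun g e g2 => ?_, fun g e g2 e1 e2 => ?_, fun g e e1 => ?_, fun g e g2 e1 e2 e3 => ?_,
    fun g e g2 e1 => ?_⟩
  · obtain ⟨_, ha, -⟩ | ⟨b, hb, e3, e4⟩ := clk emb cl1 (by decide +kernel) (mc e)
      (s2 (L := []) rfl g2 (by simp))
    · exact absurd ha List.not_mem_nil
    · obtain rfl | ⟨e5, e6⟩ := (by decide +kernel : ∀ b ∈ I1, b = ([], [], []) ∨
        b.1 = [] ∧ (b.2.2 ∈ repT ∨ b.2.2 ∈ repJ)) b hb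
      · exact .inl (by simpa using e3.symm)
      · rw [e5, evW_nil, mul_one] at e4
        exact .inr (e6.imp (fun m => (clsT h _ m).trans e4) fun m => (clsJ h _ m).trans e4)
  · obtain ⟨b, hb, e3⟩ | ⟨b, hb, e3, e4⟩ := clk emb cl2 (by decide +kernel) (mc e)
      (s2 (by decide +kernel) g2 (by simpa using ⟨e1, e2⟩))
    · obtain rfl := List.mem_singleton.1 hb
      exact .inl (evW_append x wt wc ▸ (at_cmA x g (m := 9) (L := [wt ++ wc]) (by decide +kernel)).1
        (fun _ ha => List.mem_singleton.1 ha ▸ e3) _ List.mem_cons_self)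
    · obtain rfl | rfl | ⟨e5, e6⟩ | ⟨e5, e6⟩ := (by decide +kernel : ∀ b ∈ I2, b = ([], [], ww ++ wc) ∨
        b = ([], [], ww ++ wc ++ wj) ∨ b.1 = wz ++ wj ∧ b.2.2 ∈ repJ ∨ b.1 = [] ∧ b.2.2 ∈ repT) b hb
      · exact .inr (.inl (by simpa [evW_append] using e3.symm))
      · exact .inr (.inr (.inl (by simpa [evW_append, mul_assoc] using e3.symm)))
      · rw [e5, evW_append] at e4
        exact .inr (.inr (.inr (.inl ((clsJ h _ e6).trans e4))))
      · rw [e5, evW_nil, mul_one] at e4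
        exact .inr (.inr (.inr (.inr ((clsT h _ e6).trans e4))))
  · obtain ⟨_, ha, e2⟩ := emb.cl le_rfl cl3 (by decide +kernel) g (mc e)
      ((at_cmA x g (by decide +kernel)).2 (by simpa using e1))
    obtain rfl := List.mem_singleton.1 ha
    simpa [At, xl, upd, pow_succ, mul_assoc] using e2
  · obtain ⟨_, ha, -⟩ | ⟨b, hb, e4, -⟩ := clk emb cl4 (by decide +kernel) (mc e)
      (s2 (by decide +kernel) g2 (by simpa using ⟨e1, e2, e3⟩))
    · exact absurd ha List.not_mem_nil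
    · simp only [I4, List.mem_cons, List.not_mem_nil, or_false] at hb
      rcases hb with rfl | rfl | rfl | rfl
      exacts [.inl (by simpa using e4.symm), .inr (.inl (by simpa using e4.symm)),
        .inr (.inr (.inl (by simpa using e4.symm))),
        .inr (.inr (.inr (by simpa [evW_append] using e4.symm)))]
  · obtain ⟨_, ha, -⟩ | ⟨b, hb, e3, e4⟩ := clk emb cl5 (by decide +kernel) (mc e)
      (s2 (by decide +kernel) g2 (by simpa using e1))
    · exact absurd ha List.not_mem_nil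
    · obtain rfl | rfl | ⟨e5, e6 | e6⟩ := (by decide +kernel : ∀ b ∈ I5, b = ([], [], []) ∨
        b = ([], [], wj) ∨ b.2.2 ∈ repT ∧ (b.1 = [] ∨ b.1 = wj)) b hb
      · exact .inl (by simpa using e3.symm)
      · exact .inr (.inl (by simpa using e3.symm))
      · rw [e6, evW_nil, mul_one] at e4
        exact .inr (.inr (.inl ((clsT h _ e5).trans e4)))
      · exact .inr (.inr (.inr ((clsT h _ e5).trans (e6 ▸ e4))))

theorem cent_rho (emb : Emb p x 9) {g : G} (hg : g ∈ gen x 9) (e : g * evW x wr = evW x wr * g) :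
    g ∈ closure {evW x wr, evW x wa, evW x wc} := by
  obtain ⟨_, ha, -⟩ | ⟨b, hb, e1, -⟩ := clk emb cl6 (by decide +kernel) hg
    ((at_cmA x g (by decide +kernel)).2 (by simpa using e))
  · exact absurd ha List.not_mem_nil
  · obtain ⟨f, hf, rfl⟩ := List.mem_map.1 hb
    simp only [evW_nil, inv_one, mul_one, one_mul, ← evW_sub] at e1
    refine e1 ▸ gen_le (m := 3) (fun i hi => subset_closure ?_)
      (evW_mem_gen _ (wfL_spec (by decide +kernel) hf))
    interval_cases i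
    exacts [.inl rfl, .inr (.inl rfl), .inr (.inr rfl)]

theorem eqns_facts : True := by
  have := @okN.eq_1
  have := @dn.eq_1
  have := @LX.eq_1
  trivial

end H80.L43
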