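import Cfsg.Agent.S3035
import Cfsg.Agent.Lib.Inv73.D8
import Cfsg.Agent.Lib.Core.PCore

/-! Package TUP: the centraliser of `ρ` modulo `⟨ρ⟩` is the alternating group of degree 6. -/

set_option autoImplicit false
set_option maxRecDepth 100000

namespace H31.L43

open Subgroup

namespace Tup

def gt (x i : ℕ) : ℕ := Nat.mod (Nat.shiftRight x (Nat.mul 3 i)) 8
def pk (f : ℕ → ℕ) : ℕ :=
  Nat.add (f 0) (Nat.mul 8 (Nat.add (f 1) (Nat.mul 8 (Nat.add (f 2) (Nat.mul 8 (Nat.add (f 3)
    (Nat.mul 8 (Nat.add (f 4) (Nat.mul 8 (Nat.add (f 5) (Nat.mul 8 (Nat.add (f 6)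
      (Nat.mul 8 (f 7))))))))))))))
def ml (x y : ℕ) : ℕ := pk fun i => gt x (gt y i)
def enc (f : Fin 8 → Fin 8) : ℕ := pk fun i => f (Fin.ofNat 8 i)
def on : ℕ := 16434824

theorem gt_enc (f : Fin 8 → Fin 8) (i : Fin 8) : gt (enc f) i = f i := by
  have h0 := (f 0).2
  have h1 := (f 1).2
  have h2 := (f 2).2
  have h3 := (f 3).2
  have h4 := (f 4).2
  have h5 := (f 5).2
  have h6 := (f 6).2
  have h7 := (f 7).2
  have e : enc f = f 0 + 8 * (f 1 + 8 * (f 2 + 8 * (f 3 + 8 * (f 4 + 8 * (f 5 + 8 * (f 6 +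
    8 * f 7)))))) := rfl
  have g : ∀ x j, gt x j = x / 2 ^ (3 * j) % 8 := fun x j => by
    rw [← Nat.shiftRight_eq_div_pow]; rfl
  rw [g, e]
  fin_cases i <;> simp only [Fin.reduceFinMk, Fin.zero_eta, Fin.mk_one, Fin.isValue] <;>
    norm_num <;> omega

theorem pk_congr {f g : ℕ → ℕ} (h : ∀ i : Fin 8, f i = g i) : pk f = pk g := by
  have h0 : f 0 = g 0 := h 0
  have h1 : f 1 = g 1 := h 1
  have h2 : f 2 = g 2 := h 2
  have h3 : f 3 = g 3 := h 3
  have h4 : f 4 = g 4 := h 4
  have h5 : f 5 = g 5 := h 5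
  have h6 : f 6 = g 6 := h 6
  have h7 : f 7 = g 7 := h 7
  rw [pk, h0, h1, h2, h3, h4, h5, h6, h7, pk]

theorem enc_comp (f g : Fin 8 → Fin 8) : enc (f ∘ g) = ml (enc f) (enc g) :=
  pk_congr fun i => by rw [gt_enc, gt_enc, Fin.ofNat_val_eq_self]; rfl

theorem enc_inj {f g : Fin 8 → Fin 8} (h : enc f = enc g) : f = g :=
  funext fun i => Fin.ext (by rw [← gt_enc, h, gt_enc])

def LA : List ℕ := [16434824, 16373896, 16398984, 16405704, 16427208, 16337608, 16430344, 16340744, 16362248, 16368968, 16394056, 16333128, 16406096, 16431184, 16370256, 16433872, 16308432, 16390864, 16372496, 16422672, 16300816, 16397136, 16303952, 16357712, 16434264, 16341080, 16394840, 16405144, 16423064, 16304792, 16425752, 16307480, 16325400, 16335704, 16389464, 16296280, 16372832, 16426592, 16333408, 16429728, 16307872, 16358048, 16339680, 16422112, 16296672, 16360288, 16299360, 16324448, 16397416, 16336488, 16361576, 16368296, 16389800, 16300200, 16392936, 16303336, 16324840, 16331560, 16356648, 16295720, 16406145,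 16431233, 16370305, 16434369, 16341185, 16394945, 16372993, 16426753, 16333569, 16397633, 16336705, 16361793, 16434705, 16373777, 16398865, 16404689, 16419025, 16272081, 16429329, 16275217, 16354065, 16367953, 16385873, 16267601, 16405529, 16427033, 16337433, 16433305, 16275609, 16386713, 16339225, 16418073, 16263961, 16392537, 16270681, 16320857, 16430113, 16340513, 16362017, 16371873, 16418465, 16267937, 16425185, 16274657, 16321249, 16331105, 16352609, 16263009, 16368681, 16393769, 16332841, 16396457, 16271017, 16353449, 16335081, 16385257, 16263401, 16359721, 16266537, 16320297, 16434754, 16373826, 16398914, 16405186, 16423106, 16304834, 16429826, 16307970, 16358146, 16368450, 16389954, 16300354, 16406026, 16431114, 16370186, 16433354, 16275658, 16386762, 16371978, 16418570, 16268042, 16396618, 16271178, 16353610, 16433690, 16308250, 16390682, 16404570, 16418906, 16271962, 16421146, 16274202, 16288538, 16302426, 16384858, 16259418, 16372258, 16422434, 16300578, 16429154, 16275042, 16353890,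 16306402, 16417506, 16259810, 16355682, 16266082, 16287586, 16396842, 16303658, 16357418, 16367722, 16385642, 16267370, 16388330, 16270058, 16287978, 16298282, 16352042, 16258858, 16405571, 16427075, 16337475, 16433795, 16308355, 16390787, 16339715, 16422147, 16296707, 16393027, 16303427, 16324931, 16434187, 16341003, 16394763, 16404619, 16418955, 16272011, 16425227, 16274699, 16321291, 16335179, 16385355, 16263499, 16405011, 16422931, 16304659, 16433235, 16275539, 16386643, 16306451, 16417555, 16259859, 16388435, 16270163, 16288083, 16425507, 16307235, 16325155, 16339043, 16417891, 16263779, 16421027, 16274083, 16288419, 16294243, 16319331, 16258403, 16335403, 16389163, 16295979, 16392299, 16270443, 16320619, 16302251, 16384683, 16259243, 16322859, 16261931, 16287019, 16430148, 16340548, 16362052, 16372356, 16422532, 16300676, 16425668, 16307396, 16325316, 16331588, 16356676, 16295748, 16372748, 16426508, 16333324, 16429196, 16275084, 16353932, 16339148, 16417996, 16263884, 16359756, 16266572,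 16320332, 16429588, 16307732, 16357908, 16371796, 16418388, 16267860, 16421076, 16274132, 16288468, 16298324, 16352084, 16258900, 16339484, 16421916, 16296476, 16425052, 16274524, 16321116, 16306332, 16417436, 16259740, 16322908, 16261980, 16287068, 16359980, 16299052, 16324140, 16330860, 16352364, 16262764, 16355500, 16265900, 16287404, 16294124, 16319212, 16258284, 16368709, 16393797, 16332869, 16396933, 16303749, 16357509, 16335557, 16389317, 16296133, 16360197, 16299269, 16324357, 16397325, 16336397, 16361485, 16367757, 16385677, 16267405, 16392397, 16270541, 16320717, 16331021, 16352525, 16262925, 16368149, 16389653, 16300053, 16396373, 16270933, 16353365, 16302293, 16384725, 16259285, 16355605, 16266005, 16287509, 16392733, 16303133, 16324637, 16334941, 16385117, 16263261, 16388253, 16269981, 16287901, 16294173, 16319261, 16258333, 16331301, 16356389, 16295461, 16359525, 16266341, 16320101, 16298149, 16351909, 16258725, 16322789, 16261861, 16286949]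
def IA : List ℕ := [16434824, 16405704, 16362248, 16333128, 16406096, 16431184, 16370256, 16405144, 16425752, 16335704, 16358048, 16422112, 16324448, 16300200, 16303336, 16295720, 16406145, 16431233, 16370305, 16434369, 16426753, 16336705, 16406026, 16431114, 16370186, 16433690, 16422434, 16303658, 16404619, 16425227, 16335179, 16433235, 16421027, 16302251, 16353932, 16417996, 16320332, 16418388, 16417436, 16287404, 16267405, 16270541, 16262925, 16270933, 16269981, 16258725]
def OA : List ℕ := [16434824, 16373896, 16398984, 16427208, 16337608, 16430344, 16340744, 16368968, 16394056, 16433872, 16422672, 16303952, 16434264, 16423064, 16304792, 16426592, 16429728, 16307872, 16336488, 16368296, 16389800, 16434705, 16373777, 16398865, 16433305, 16339225, 16392537, 16418465, 16321249, 16352609, 16271017, 16263401, 16266537, 16434754, 16373826, 16398914, 16433354, 16418570, 16271178, 16288538, 16259418, 16306402, 16266082, 16388330, 16352042, 16433795, 16339715, 16393027, 16434187, 16418955, 16272011,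 16259859, 16288083, 16307235, 16263779, 16389163, 16320619, 16422532, 16325316, 16356676, 16426508, 16429196, 16275084, 16274132, 16298324, 16296476, 16274524, 16359980, 16330860, 16303749, 16296133, 16299269, 16336397, 16367757, 16385677, 16384725, 16355605, 16324637, 16385117, 16331301, 16359525]
def LS : List ℕ := [15637664, 8182944, 8295840, 15521184, 10992800, 3538080, 3650976, 10876320, 16096528, 6806800, 7836976, 15062320, 12369168, 3079440, 4109616, 11334960, 12425616, 3135888, 11507888, 4053168, 16038288, 6748560, 15120560, 7665840, 15673952, 8219232, 8332128, 15557472, 10956512, 3501792, 3614688, 10840032, 16205392, 6770512, 7687792, 15026032, 12478032, 3043152, 11415152, 4073328, 12534480, 3099600, 4016880, 11355120, 16147152, 6712272, 15084272, 7742448, 13351520, 5896800, 6009696, 13235040, 13278944, 5824224, 5937120, 13162464, 13882960, 13737808, 5365360, 5478256, 10155600, 10010448, 9092720, 8976240, 10212048, 10066896, 9149168, 9032688, 13824720, 13679568, 5307120, 5420016,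 16362248, 7072520, 8102696, 15328040, 16434824, 6999944, 7917224, 15255464, 11789960, 11644808, 3272360, 3385256, 12103448, 2813720, 3843896, 11069240, 12305048, 2870168, 3787448, 11125688, 15917720, 15772568, 7400120, 7513016, 14498568, 5208840, 6239016, 13464360, 14571144, 5136264, 13508264, 6166440, 9926280, 9781128, 8863400, 8746920, 13967128, 4677400, 5707576, 12932920, 10441368, 10296216, 9378488, 9262008, 14054040, 4619160, 12991160, 5649336, 14526792, 5237064, 13609064, 6154344, 14599368, 5164488, 6081768, 13420008, 9954504, 9809352, 8891624, 8775144, 14140504, 4705624, 5622904, 12961144, 10413144, 10267992, 9350264, 9233784, 13937112, 4647384, 13019384, 5564664, 16333128, 7043400, 15415400, 7960680, 16405704, 6970824, 15342824, 8001000, 11760840, 11615688, 3243240, 3356136, 15946840, 15801688, 7429240, 7542136, 12219480, 2784600, 11156600, 3814776, 12130776, 2841048, 11213048, 3758328]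
def IS : List ℕ := [15637664, 15120560, 16205392, 15026032, 5937120, 10155600, 16362248, 16434824, 6999944, 7917224, 15255464, 11789960, 3843896, 12305048, 3787448, 15917720, 14571144, 9926280, 14599368, 5164488, 16333128, 16405704]
def OS : List ℕ := [8182944, 15521184, 3538080, 16096528, 4109616, 4053168, 6748560, 7665840, 15673952, 10840032, 4073328, 12534480, 3099600, 4016880, 11355120, 16147152, 6009696, 5824224, 13162464, 5478256, 10010448, 9092720, 10212048, 13824720, 7072520, 15328040, 16434824, 11644808, 3385256, 2813720, 11069240, 15772568, 7513016, 5208840, 13508264, 6166440, 9781128, 8863400, 12932920, 9378488, 12991160, 5237064, 9809352, 14140504, 4705624, 5622904, 12961144, 10413144, 13019384, 7043400, 7960680, 15342824, 8001000, 11615688, 15946840, 12219480, 12130776]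

def chk (L I O : List ℕ) (Q : ℕ → ℕ → ℕ → ℕ → Bool) : Bool :=
  L.all fun y => !Nat.beq (ml (ml y y) (ml y y)) on || I.all fun a =>
    Nat.beq (ml a (ml (ml y y) (ml a (ml y y)))) on ||
    !Nat.beq (ml y (ml a (ml (ml y y) (ml a (ml y y)))))
      (ml (ml a (ml (ml y y) (ml a (ml y y)))) (ml (ml y y) y)) ||
    O.all fun d => !Nat.beq (ml d a) (ml (ml (ml y y) (ml a (ml y y))) d) ||
      !Nat.beq (ml d (ml (ml y y) (ml a (ml y y)))) (ml (ml a (ml (ml y y) (ml a (ml y y)))) d) ||
      !Nat.beq (ml (ml y y) (ml d (ml y y))) (ml d d) || Q y a d (ml y y)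

def sub (L I O : List ℕ) : Bool :=
  L.all fun x => (!Nat.beq (ml x x) on || I.any (Nat.beq x)) &&
    (!Nat.beq (ml x (ml x x)) on || O.any (Nat.beq x))

def QA (y _a d _c : ℕ) : Bool := Nat.beq (ml (ml (ml y d) (ml y d)) (ml (ml y d) (ml y d))) on
def cb (u : ℕ) : Bool := Nat.beq (ml u (ml u u)) on
def QS (y a d c : ℕ) : Bool := xor (cb (ml y (ml a d))) (cb (ml y (ml c (ml a d))))

theorem chkA : chk LA IA OA QA = true := by decide +kernel
theorem chkS : chk LS IS OS QS = true := by decide +kernel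
theorem subA : sub LA IA OA = true := by decide +kernel
theorem subS : sub LS IS OS = true := by decide +kernel

/-- the relations in the quotient -/
structure Rel {H : Type*} [Group H] (y a b c d : H) : Prop where
  aa : a * a = 1
  cc : c * c = 1
  ab : a * b = b * a
  cac : c * a * c = b
  ddd : d * d * d = 1
  da : d * a * d⁻¹ = b
  db : d * b * d⁻¹ = a * b
  cdc : c * d * c = d⁻¹
  yy : y * y = c
  ye : y * (a * b) * y⁻¹ = a * b * c
  ne : a * b ≠ 1

theorem Rel.map {H K : Type*} [Group H] [Group K] {y a b c d : H} (r : Rel y a b c d) (f : H ≃* K) :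
    Rel (f y) (f a) (f b) (f c) (f d) := by
  refine ⟨?_, ?_, ?_, ?_, ?_, ?_, ?_, ?_, ?_, ?_, ?_⟩ <;>
    simp only [← map_inv, ← map_mul, r.aa, r.cc, r.cac, r.ddd, r.da, r.db, r.cdc, r.yy, r.ye,
      map_one, ne_eq, EmbeddingLike.map_eq_one_iff, r.ne, not_false_eq_true]
  rw [r.ab]

theorem of_chk {K : Type*} [Group K] (E : K → ℕ) (hm : ∀ g h, E (g * h) = ml (E g) (E h))
    (h1 : ∀ g, E g = on ↔ g = 1) {L I O : List ℕ} (hL : ∀ g, E g ∈ L) (hs : sub L I O = true)
    {Q : ℕ → ℕ → ℕ → ℕ → Bool} (hc : chk L I O Q = true) {y a b c d : K} (r : Rel y a b c d) :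
    Q (E y) (E a) (E d) (E c) = true := by
  simp only [sub, List.all_eq_true, Bool.and_eq_true, Bool.or_eq_true, Bool.not_eq_true',
    List.any_eq_true, Nat.beq_eq, ← Bool.not_eq_true] at hs
  simp only [chk, List.all_eq_true, Bool.or_eq_true, Bool.not_eq_true', Nat.beq_eq,
    ← Bool.not_eq_true] at hc
  have hb : c * (a * c) = b := by rw [← mul_assoc, r.cac]
  have ha : E a ∈ I := by
    obtain ⟨x, hx, e⟩ := (hs _ (hL a)).1.resolve_left (by rw [← hm, h1]; exact fun h => h r.aa)
    exact e ▸ hx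
  have hd : E d ∈ O := by
    obtain ⟨x, hx, e⟩ := (hs _ (hL d)).2.resolve_left (by
      rw [← hm, ← hm, h1, ← mul_assoc]; exact fun h => h r.ddd)
    exact e ▸ hx
  have k1 := (hc _ (hL y)).resolve_left (by rw [← hm, ← hm, h1, r.yy]; exact fun h => h r.cc) _ ha
  simp only [← hm, r.yy, hb, h1] at k1
  have k2 := (k1.resolve_left (by
    rw [not_or, not_not, ← mul_assoc (a * b), ← r.ye, inv_mul_cancel_right]
    exact ⟨r.ne, rfl⟩)) _ hd
  simp only [← hm] at k2
  refine k2.resolve_left ?_
  have e3 : c * (d * c) = d * d := by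
    rw [← mul_assoc, r.cdc, inv_eq_iff_mul_eq_one, ← mul_assoc, r.ddd]
  rw [e3, ← r.db, inv_mul_cancel_right]
  nth_rewrite 1 [← r.da]
  simp

def actA (g : Equiv.Perm (Fin 6)) (i : Fin 8) : Fin 8 :=
  if h : i.1 < 6 then ⟨g ⟨i, h⟩, by omega⟩ else i

theorem memA : ∀ g : Equiv.Perm (Fin 6), Equiv.Perm.sign g = 1 →
    LA.any (Nat.beq (enc (actA g))) = true := by decide +kernel

theorem caseA {y a b c d : alternatingGroup (Fin 6)} (r : Rel y a b c d) : (y * d) ^ 4 = 1 := by
  have hm : ∀ g h : alternatingGroup (Fin 6), enc (actA (g * h).1) =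
      ml (enc (actA g.1)) (enc (actA h.1)) := fun g h => by
    rw [← enc_comp]
    congr 1
    funext i
    by_cases hi : i.1 < 6 <;> simp [actA, hi]
  have h1 : ∀ g : alternatingGroup (Fin 6), enc (actA g.1) = on ↔ g = 1 := fun g => by
    refine ⟨fun h => Subtype.ext (Equiv.ext fun i => ?_), fun h => by rw [h]; decide +kernel⟩
    have := congrFun (enc_inj (h.trans (by decide +kernel : on = enc id))) ⟨i, by omega⟩
    simpa [actA, Fin.ext_iff] using this
  have := of_chk (fun g : alternatingGroup (Fin 6) => enc (actA g.1)) hm h1 (fun g => by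
    obtain ⟨x, hx, e⟩ := List.any_eq_true.1 (memA g.1 g.2)
    exact Nat.eq_of_beq_eq_true e ▸ hx) subA chkA r
  simp only [QA, Nat.beq_eq, ← hm, h1] at this
  rw [← this]
  simp only [pow_succ, pow_zero, one_mul, mul_assoc]

def vec (i : Fin 8) : Fin 3 → ZMod 2 := ![(i.1 : ZMod 2), (i.1 / 2 : ℕ), (i.1 / 4 : ℕ)]
def idx (v : Fin 3 → ZMod 2) : Fin 8 := Fin.ofNat 8 ((v 0).val + 2 * (v 1).val + 4 * (v 2).val)

theorem vec_idx : ∀ v, vec (idx v) = v := by decide +kernel

def actS (A : Matrix (Fin 3) (Fin 3) (ZMod 2)) (i : Fin 8) : Fin 8 := idx (A.mulVec (vec i))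

theorem memS : ∀ a b c d e f g h i : ZMod 2,
    a * e * i - a * f * h - b * d * i + b * f * g + c * d * h - c * e * g = 1 →
    LS.any (Nat.beq (enc (actS !![a, b, c; d, e, f; g, h, i]))) = true := by decide +kernel

theorem caseS {y a b c d : Matrix.SpecialLinearGroup (Fin 3) (ZMod 2)} (r : Rel y a b c d) :
    ¬ ((y * (a * d)) ^ 3 = 1 ↔ (y⁻¹ * (a * d)) ^ 3 = 1) := by
  have hm : ∀ g h : Matrix.SpecialLinearGroup (Fin 3) (ZMod 2), enc (actS (g * h).1) =
      ml (enc (actS g.1)) (enc (actS h.1)) := fun g h => by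
    rw [← enc_comp]
    congr 1
    funext i
    simp [actS, vec_idx]
  have h1 : ∀ g : Matrix.SpecialLinearGroup (Fin 3) (ZMod 2), enc (actS g.1) = on ↔ g = 1 := by
    intro g
    refine ⟨fun h => Subtype.ext (Matrix.ext_of_mulVec_single fun i => ?_),
      fun h => by rw [h]; decide +kernel⟩
    have e := congrFun (enc_inj (h.trans (by decide +kernel : on = enc id))) (idx (Pi.single i 1))
    have := congrArg vec e
    simp only [actS, vec_idx, id] at this
    rw [this, Matrix.SpecialLinearGroup.coe_one, Matrix.one_mulVec]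
  have := of_chk (fun g : Matrix.SpecialLinearGroup (Fin 3) (ZMod 2) => enc (actS g.1)) hm h1
    (fun g => by
      have h := memS (g.1 0 0) (g.1 0 1) (g.1 0 2) (g.1 1 0) (g.1 1 1) (g.1 1 2) (g.1 2 0) (g.1 2 1)
        (g.1 2 2) (by rw [← Matrix.det_fin_three, g.2])
      rw [← Matrix.eta_fin_three] at h
      obtain ⟨x, hx, e⟩ := List.any_eq_true.1 h
      exact Nat.eq_of_beq_eq_true e ▸ hx) subS chkS r
  have hc : ∀ u : Matrix.SpecialLinearGroup (Fin 3) (ZMod 2), cb (enc (actS u.1)) = true ↔
      u ^ 3 = 1 := fun u => by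
    simp only [cb, Nat.beq_eq, ← hm, h1, pow_succ, pow_zero, one_mul, mul_assoc]
  have hy : y⁻¹ = y * c := by
    rw [inv_eq_iff_mul_eq_one, ← mul_assoc, r.yy, r.cc]
  simp only [QS, ← hm] at this
  rw [hy, mul_assoc y c, ← hc, ← hc]
  intro h
  rw [Bool.eq_iff_iff.2 h, Bool.xor_self] at this
  exact Bool.false_ne_true this

theorem core {H : Type*} [Group H] [Finite H] {y a b c d : H} (r : Rel y a b c d) (τ : H →* H)
    (hτ : Function.Injective τ) (h1 : τ y = y⁻¹) (h2 : τ a = a) (h3 : τ d = d)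
    (hC : ∀ g, g * (a * b) = a * b * g → g ∈ closure {a, c}) :
    Nat.card H = 360 ∧ (y * d) ^ 4 = 1 := by
  have ci : c⁻¹ = c := inv_eq_of_mul_eq_one_right r.cc
  have ai : a⁻¹ = a := inv_eq_of_mul_eq_one_right r.aa
  have bb : b * b = 1 := by
    rw [← r.da]
    calc d * a * d⁻¹ * (d * a * d⁻¹) = d * (a * a) * d⁻¹ := by group
      _ = 1 := by rw [r.aa]; group
  have ee : a * b * (a * b) = 1 := by
    calc a * b * (a * b) = a * (b * a) * b := by group
      _ = (a * a) * (b * b) := by rw [← r.ab]; group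
      _ = 1 := by rw [r.aa, bb, one_mul]
  have e2 : orderOf (a * b) = 2 := orderOf_eq_prime (by rw [pow_two, ee]) r.ne
  have sq : (a * c) ^ 2 = a * b := by rw [pow_two, ← r.cac]; group
  have cj : c * (a * c) * c⁻¹ = (a * c)⁻¹ := by
    rw [mul_inv_rev, ai, ← mul_assoc, mul_inv_cancel_right, ci]
  have ce : c * (a * b) = a * b * c := by
    rw [← sq, ← mul_inv_eq_iff_eq_mul, ← conj_pow, cj, inv_pow, sq, inv_eq_iff_mul_eq_one, ee]
  have ae : a * (a * b) = a * b * a := by rw [mul_assoc, ← r.ab]
  have D : H73.DihData (centralizer ({a * b} : Set H)) 4 (a * c) c := by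
    refine ⟨?_, r.cc, cj, ?_, fun g => ⟨fun hg => ?_, ?_⟩⟩
    · have : Fact (Nat.Prime 2) := ⟨Nat.prime_two⟩
      refine orderOf_eq_prime_pow (p := 2) (n := 1) (by rw [pow_one, sq]; exact r.ne) ?_
      rw [pow_succ, pow_mul, pow_one, sq, pow_two, ee]
    · rintro ⟨i, hi⟩
      have : Commute (a * c) c := by
        have h := (Commute.refl (a * c)).zpow_right i
        rwa [show (a * c) ^ i = c from hi] at h
      apply r.ne
      rw [← r.cac, mul_assoc c, ← this.eq, mul_assoc a c, r.cc, mul_one, r.aa]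
    · have hz : ∀ i : ℤ, c * (a * c) ^ i = (a * c) ^ (-i) * c := fun i => by
        rw [← mul_inv_eq_iff_eq_mul, ← conj_zpow, cj, inv_zpow']
      replace hg := hC g (mem_centralizer_singleton_iff.1 hg)
      rw [← mem_toSubmonoid, closure_toSubmonoid_of_finite] at hg
      induction hg using Submonoid.closure_induction_left with
      | one => exact ⟨0, Or.inl (by simp)⟩
      | mul_left x hx z _ ih =>
        have hc : ∀ z : H, (∃ i : ℤ, z = (a * c) ^ i ∨ z = (a * c) ^ i * c) →
            ∃ i : ℤ, c * z = (a * c) ^ i ∨ c * z = (a * c) ^ i * c := by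
          rintro _ ⟨i, rfl | rfl⟩
          · exact ⟨-i, Or.inr (hz i)⟩
          · exact ⟨-i, Or.inl (by rw [← mul_assoc, hz, mul_assoc, r.cc, mul_one])⟩
        rcases hx with rfl | rfl
        · obtain ⟨i, hi⟩ := hc z ih
          have e : x * z = x * c * (c * z) := by rw [mul_assoc, ← mul_assoc c, r.cc, one_mul]
          refine ⟨1 + i, hi.imp (fun h => ?_) fun h => ?_⟩ <;>
            rw [e, h, zpow_add, zpow_one] <;> group
        · exact hc z ih
    · have hc : c ∈ centralizer ({a * b} : Set H) := mem_centralizer_singleton_iff.2 ce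
      have ha : a * c ∈ centralizer ({a * b} : Set H) :=
        mul_mem (mem_centralizer_singleton_iff.2 ae) hc
      rintro ⟨i, rfl | rfl⟩
      exacts [zpow_mem ha i, mul_mem (zpow_mem ha i) hc]
  have sgn : ∀ n : ℕ, 2 ≤ n → ¬ 16 ∣ n.factorial → ¬ Nonempty (H ≃* Equiv.Perm (Fin n)) := by
    rintro n hn h16 ⟨f⟩
    have : Nontrivial (Fin n) := Fin.nontrivial_iff_two_le.2 hn
    let s : H →* ℤˣ := Equiv.Perm.sign.comp f.toMonoidHom
    have sa : s a = 1 := by
      have e1 := congrArg s r.da
      have e2 := congrArg s r.db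
      simp only [map_mul, map_inv, mul_inv_cancel_comm] at e1 e2
      exact (right_eq_mul.1 e2)
    have sc : s c = 1 := by rw [← r.yy, map_mul, Int.units_mul_self]
    have hle : centralizer ({a * b} : Set H) ≤ s.ker := fun g hg =>
      (closure_le s.ker).2 (by rintro _ (rfl | rfl) <;> assumption)
        (hC g (mem_centralizer_singleton_iff.1 hg))
    have hi : s.ker.index = 2 := by
      have hs : Function.Surjective s := (Equiv.Perm.sign_surjective (Fin n)).comp f.surjective
      rw [Subgroup.index_ker, MonoidHom.range_eq_top.2 hs, card_top]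
      simp
    have h8 := Subgroup.card_dvd_of_le hle
    have := s.ker.card_mul_index
    rw [hi, Nat.card_congr f.toEquiv, Nat.card_perm, Nat.card_fin] at this
    rw [D.card] at h8
    omega
  rcases Cfsg.Agent.S3035.result (a * b) e2 (D.nonempty_mulEquiv (by norm_num)) with
    h | h | h | ⟨⟨f⟩⟩ | ⟨⟨f⟩⟩
  · exfalso
    have hO : (Cfsg.oddCore H).Normal := inferInstance
    have hp : IsPGroup 2 (H ⧸ Cfsg.oddCore H) := by
      have h4 := (IsPGroup.of_card (p := 2) (n := 3) D.card).map (QuotientGroup.mk' (Cfsg.oddCore H))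
      have h5 := congrArg (Subgroup.map (QuotientGroup.mk' (Cfsg.oddCore H))) h
      rw [Subgroup.map_sup, QuotientGroup.map_mk'_self, sup_bot_eq,
        map_top_of_surjective _ (QuotientGroup.mk'_surjective _)] at h5
      rw [h5] at h4
      exact h4.of_equiv topEquiv
    have hd : d ∈ Cfsg.oddCore H := by
      obtain ⟨k, hk⟩ := hp (d : H ⧸ Cfsg.oddCore H)
      have h6 : (d : H ⧸ Cfsg.oddCore H) ^ 3 = 1 := by
        rw [← QuotientGroup.mk_pow, pow_three', r.ddd, QuotientGroup.mk_one]
      rw [← QuotientGroup.eq_one_iff, ← orderOf_eq_one_iff]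
      exact Nat.eq_one_of_dvd_coprimes (Nat.Coprime.pow_left k (by norm_num : Nat.Coprime 2 3))
        (orderOf_dvd_of_pow_eq_one hk) (orderOf_dvd_of_pow_eq_one h6)
    have he : a * b ∈ Cfsg.oddCore H := by
      have := mul_mem hd (hO.conj_mem d⁻¹ (inv_mem hd) a)
      rwa [← mul_assoc, ← mul_assoc, r.da, ai, ← r.ab] at this
    have := (H1.odd_card_oddCore (G := H)).of_dvd_nat (Subgroup.orderOf_dvd_natCard _ he)
    rw [e2] at this
    exact absurd this (by decide)
  · exact (sgn 4 (by norm_num) (by decide) h).elim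
  · exact (sgn 5 (by norm_num) (by decide) h).elim
  · refine (caseS (r.map f) ?_).elim
    simp only [← map_inv, ← map_mul, ← map_pow, EmbeddingLike.map_eq_one_iff]
    rw [← h1, ← (injective_iff_map_eq_one' τ).1 hτ]
    simp only [map_pow, map_mul, h2, h3]
  · refine ⟨by rw [Nat.card_congr f.toEquiv, Nat.card_eq_fintype_card, card_alternatingGroup]; decide,
      ?_⟩
    have := caseA (r.map f)
    rwa [← map_mul, ← map_pow, EmbeddingLike.map_eq_one_iff] at this

end Tup

theorem tup {G : Type*} [Group G] [Finite G] {ρ y a b c d t : G} (ρ4 : orderOf ρ = 4)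
    (cen : y * ρ = ρ * y ∧ a * ρ = ρ * a ∧ c * ρ = ρ * c ∧ d * ρ = ρ * d) (tρ : t * ρ * t⁻¹ = ρ⁻¹)
    (r : a * a = 1 ∧ c * c = 1 ∧ a * b = b * a ∧ c * a * c = b ∧ d * d * d = 1 ∧ d * a * d⁻¹ = b ∧
      d * b * d⁻¹ = ρ * ρ * (a * b) ∧ c * d * c = d⁻¹ ∧ y * y = c ∧ y * (a * b) * y⁻¹ = a * b * c)
    (σ : t * y * t⁻¹ = y⁻¹ ∧ t * a * t⁻¹ = a ∧ t * d * t⁻¹ = d)
    (ne : a * b ≠ 1) (nc : ∀ g, g * (a * b) * g⁻¹ ≠ ρ * ρ * (a * b))
    (hC : ∀ g, g * ρ = ρ * g → g * (a * b) = a * b * g → g ∈ closure {ρ, a, c}) :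
    Nat.card (centralizer ({ρ} : Set G)) = 1440 ∧ (y * d) ^ 4 ∈ zpowers ρ := by
  obtain ⟨cy, ca, cc, cd⟩ := cen
  obtain ⟨r1, r2, r3, r4, r5, r6, r7, r8, r9, r10⟩ := r
  obtain ⟨s1, s2, s3⟩ := σ
  set C := centralizer ({ρ} : Set G)
  have mC : ∀ g, g ∈ C ↔ g * ρ = ρ * g := fun g => mem_centralizer_singleton_iff
  have my := (mC _).2 cy
  have ma := (mC _).2 ca
  have mc := (mC _).2 cc
  have md := (mC _).2 cd
  have mb : b ∈ C := r4 ▸ mul_mem (mul_mem mc ma) mc
  have mρ : ρ ∈ C := (mC _).2 rfl
  have cz : ∀ g ∈ C, ∀ z ∈ zpowers ρ, g * z = z * g := by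
    rintro g hg _ ⟨i, rfl⟩
    exact Commute.zpow_right ((mC _).1 hg) i
  set N := (zpowers ρ).subgroupOf C
  have hN : N.Normal := ⟨fun n hn g => by
    have : (g : G) * n * (g : G)⁻¹ = n := by
      rw [cz _ g.2 _ (mem_subgroupOf.1 hn), mul_inv_cancel_right]
    rwa [show g * n * g⁻¹ = n from Subtype.ext this]⟩
  let π := QuotientGroup.mk' N
  have kπ : ∀ g : C, π g = 1 ↔ (g : G) ∈ zpowers ρ := fun g => QuotientGroup.eq_one_iff g
  have p4 : ρ ^ 4 = 1 := ρ4 ▸ pow_orderOf_eq_one ρ
  have inv2 : ∀ z ∈ zpowers ρ, z * z = 1 → z = 1 ∨ z = ρ * ρ := by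
    classical
    intro z hz h
    rw [mem_zpowers_iff_mem_range_orderOf, ρ4] at hz
    obtain ⟨i, hi, rfl⟩ := Finset.mem_image.1 hz
    rw [← pow_add, ← orderOf_dvd_iff_pow_eq_one, ρ4] at h
    have : i = 0 ∨ i = 2 := by have := Finset.mem_range.1 hi; omega
    rcases this with rfl | rfl
    exacts [Or.inl (pow_zero _), Or.inr (pow_two _)]
  have bb : b * b = 1 := by
    rw [← r6]
    calc d * a * d⁻¹ * (d * a * d⁻¹) = d * (a * a) * d⁻¹ := by group
      _ = 1 := by rw [r1]; group
  have ee : a * b * (a * b) = 1 := by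
    calc a * b * (a * b) = a * (b * a) * b := by group
      _ = (a * a) * (b * b) := by rw [← r3]; group
      _ = 1 := by rw [r1, bb, one_mul]
  have πρ : π ⟨ρ, mρ⟩ = 1 := (kπ _).2 (mem_zpowers ρ)
  have R : Tup.Rel (π ⟨y, my⟩) (π ⟨a, ma⟩) (π ⟨b, mb⟩) (π ⟨c, mc⟩) (π ⟨d, md⟩) := by
    refine ⟨?_, ?_, ?_, ?_, ?_, ?_, ?_, ?_, ?_, ?_, ?_⟩ <;> simp only [← map_inv, ← map_mul]
    · exact (congrArg π (Subtype.ext r1)).trans (map_one π)
    · exact (congrArg π (Subtype.ext r2)).trans (map_one π)
    · exact congrArg π (Subtype.ext r3)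
    · exact congrArg π (Subtype.ext r4)
    · exact (congrArg π (Subtype.ext r5)).trans (map_one π)
    · exact congrArg π (Subtype.ext r6)
    · rw [show (⟨d, md⟩ * ⟨b, mb⟩ * ⟨d, md⟩⁻¹ : C) = ⟨ρ, mρ⟩ * ⟨ρ, mρ⟩ * (⟨a, ma⟩ * ⟨b, mb⟩) from
        Subtype.ext r7, map_mul, map_mul π ⟨ρ, mρ⟩, πρ, one_mul, one_mul]
    · exact congrArg π (Subtype.ext r8)
    · exact congrArg π (Subtype.ext r9)
    · exact congrArg π (Subtype.ext r10)
    · intro h
      have h1 : a * b = ρ * ρ := (inv2 _ ((kπ _).1 h) ee).resolve_left ne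
      have h2 : b = 1 := by
        rw [← h1, ee, mul_inv_eq_one, mul_eq_left] at r7
        exact r7
      have h3 : a = 1 := by
        rw [h2, mul_inv_eq_one, mul_eq_left] at r6
        exact r6
      exact ne (by rw [h2, h3, mul_one])
  have tC : ∀ g ∈ C, t * g * t⁻¹ ∈ C := fun g hg => by
    have h1 : Commute (t * g * t⁻¹) (t * ρ * t⁻¹) := (Commute.map ((mC _).1 hg) (MulAut.conj t))
    rw [tρ] at h1
    exact (mC _).2 (Commute.inv_right_iff.1 h1)
  let T : C →* C := ((MulAut.conj t).toMonoidHom.comp C.subtype).codRestrict C fun g => tC _ g.2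
  have tz : ∀ g : G, t * g * t⁻¹ ∈ zpowers ρ ↔ g ∈ zpowers ρ := fun g => by
    have : (zpowers ρ).map (MulAut.conj t).toMonoidHom = zpowers ρ := by
      rw [MonoidHom.map_zpowers]
      exact (congrArg zpowers tρ).trans zpowers_inv
    conv_lhs => rw [← this]
    exact mem_map_iff_mem (MulAut.conj t).injective
  let τ := QuotientGroup.map N N T fun g hg => (tz _).2 hg
  have hτ : ∀ g : C, τ (π g) = π (T g) := fun _ => rfl
  obtain ⟨h1, h2⟩ := Tup.core R τ ((injective_iff_map_eq_one τ).2 fun g hg => by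
      obtain ⟨g, rfl⟩ := QuotientGroup.mk'_surjective N g
      exact (kπ _).2 ((tz _).1 ((kπ (T g)).1 hg)))
    (by rw [hτ, ← map_inv]; exact congrArg π (Subtype.ext s1))
    (by rw [hτ]; exact congrArg π (Subtype.ext s2)) (by rw [hτ]; exact congrArg π (Subtype.ext s3))
    fun g hg => by
      obtain ⟨g, rfl⟩ := QuotientGroup.mk'_surjective N g
      have h1 : (g : G) * (a * b) * (g : G)⁻¹ * (a * b)⁻¹ ∈ zpowers ρ := by
        refine (kπ (g * (⟨a, ma⟩ * ⟨b, mb⟩) * g⁻¹ * (⟨a, ma⟩ * ⟨b, mb⟩)⁻¹)).1 ?_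
        simp only [map_mul, map_inv]
        rw [show π g = QuotientGroup.mk' N g from rfl, hg]
        group
      have h2 : (g : G) * (a * b) * (g : G)⁻¹ = a * b := by
        have h3 := inv2 _ h1 (by
          have h4 := cz _ (inv_mem (mul_mem ma mb)) _ h1
          have h5 : (a * b)⁻¹ = a * b := inv_eq_of_mul_eq_one_right ee
          calc _ = (g : G) * (a * b) * (g : G)⁻¹ * ((a * b)⁻¹ *
                ((g : G) * (a * b) * (g : G)⁻¹ * (a * b)⁻¹)) := by group
            _ = (g : G) * (a * b * (a * b)) * (g : G)⁻¹ * ((a * b)⁻¹ * (a * b)⁻¹) := by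
                rw [h4]; group
            _ = 1 := by rw [h5, ee]; group)
        exact mul_inv_eq_one.1 (h3.resolve_right fun e => nc g (mul_inv_eq_iff_eq_mul.1 e))
      have h3 : closure {ρ, a, c} ≤ ((closure {π ⟨a, ma⟩, π ⟨c, mc⟩}).comap π).map C.subtype := by
        rw [closure_le]
        rintro _ (rfl | rfl | rfl)
        · exact ⟨⟨_, mρ⟩, by rw [SetLike.mem_coe, mem_comap, πρ]; exact one_mem _, rfl⟩
        · exact ⟨⟨_, ma⟩, subset_closure (Or.inl rfl), rfl⟩
        · exact ⟨⟨_, mc⟩, subset_closure (Or.inr rfl), rfl⟩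
      obtain ⟨k, hk, e⟩ := h3 (hC g ((mC _).1 g.2) (mul_inv_eq_iff_eq_mul.1 h2))
      exact (Subtype.ext e : k = g) ▸ hk
  refine ⟨?_, (kπ ((⟨y, my⟩ * ⟨d, md⟩) ^ 4)).1 (by rw [map_pow, map_mul, h2])⟩
  rw [card_eq_card_quotient_mul_card_subgroup N, h1,
    Nat.card_congr (subgroupOfEquivOfLe (zpowers_le.2 mρ)).toEquiv, Nat.card_zpowers, ρ4]

end H31.L43
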