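import Cfsg.Agent.Lib.P43.Main
import Cfsg.Agent.Lib.X32.TUP
import Cfsg.Agent.Lib.X32.EndFacts
/-! Package END: a centraliser of order 1152 gives `L₄(3)` (helper80) -/
set_option autoImplicit false
set_option maxRecDepth 100000
namespace H80.L43
open H54 H27.W Subgroup H31.L43 H70.TM

theorem main {G : Type*} [Group G] [Finite G] {x : ℕ → G} (h : Rels R0 x)
    (hC : gen x 9 = centralizer {x 0}) (hc : Nat.card (gen x 9) = 1152)
    (n1 : ∀ g, g * x 0 * g⁻¹ ≠ x 0 * x 1) :
    Nonempty (G ≃* Matrix.ProjectiveSpecialLinearGroup (Fin 4) (ZMod 3)) := by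
  have emb : Emb p x 9 := (homC h).emb_of_card (hc ▸ bnd_le bndC9 p_relsC)
  have L := loc h emb hC n1
  have ir := L.inv_rho
  have ez : evW x wz = x 0 := mul_one _
  have q := eqs1 h [(wc ++ wc, []), (wc ++ wa ++ wc, wb), (wt ++ wt, []), (wt ++ wa, wa ++ wt),
    (wt ++ (wz ++ wj), wz ++ wj ++ wt), (wt ++ wc ++ wt, wc), (wr ++ (wr ++ wj), []),
    (wr ++ wr ++ (wa ++ wb), wz), (wD ++ wr, wr ++ wD), (wD ++ wD ++ wD, []), (wD ++ wa, wb ++ wD),
    (wD ++ wb, wz ++ wD), (wc ++ wD ++ wc ++ wD, []), (wt ++ wD, wD ++ wt),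
    (wh ++ wr, [18, 0, 16] ++ wh), (wh ++ wt, wz ++ wh), (wh ++ wa, wt ++ wh)] (by decide +kernel)
  have a := actX h ((wz ++ wj, wz ++ wj ++ wc), [0, 4, 6], [2, 4, 6]) (by decide +kernel)
  simp only [List.forall_mem_cons, At, evW_append, evW_nil, List.not_mem_nil, false_imp_iff,
    implies_true, and_true] at q a
  obtain ⟨q1, q2, q3, q4, q5, q6, q7, q8, q9, q10, q11, q12, q13, q14, q15, q16, q17⟩ := q
  have xi := inv_eq_of_mul_eq_one_right L.X2
  have ri := inv_eq_of_mul_eq_one_right q7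
  have y : evW x wX * evW x wt * evW x wr = evW x wr * (evW x wX * evW x wt) := by
    rw [← mul_inv_eq_iff_eq_mul, cj_trans L.tr rfl, ← conj_mul, ir, L.Xj, mul_assoc, L.j2, mul_one]
  obtain ⟨c1, c2⟩ := tup (ρ := evW x wr) (y := evW x wX * evW x wt) (a := evW x wa) (b := evW x wb)
    (c := evW x wc) (d := evW x wD) (t := evW x wt)
    (orderOf_eq_prime_pow (p := 2) (n := 1) (by rw [pow_one, sq, L.rr]; exact L.j1)
      (L.k3 _ L.rz (L.cj_of rfl)))
    ⟨y, L.ar, L.cr, q9⟩ (L.tr.trans ri.symm)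
    ⟨L.a2, q1, L.ba, q2, q10, mul_inv_eq_iff_eq_mul.2 q11, (mul_inv_eq_iff_eq_mul.2 q12).trans q8.symm,
      eq_inv_of_mul_eq_one_left q13, by rw [← mul_assoc, ← q6, ← L.Xt, xi],
      L.ab ▸ cj_trans (cj_eq_iff'.2 q5) a⟩
    ⟨by rw [mul_inv_rev, xi, inv_eq_of_mul_eq_one_right q3, mul_assoc, mul_assoc, q3, mul_one],
      cj_eq_iff'.2 q4, cj_eq_iff'.2 q14⟩
    (L.ab ▸ L.Je.cj.ne L.j1) (fun g e => L.n1 (q8 ▸ e ▸ L.ab ▸ L.Je.cj.cj g : Cj _ _).symm)
    fun g e1 e2 => cent_rho emb (by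
      rw [hC, ← ez, ← q8]; exact mem_c.2 (comm_mul (comm_mul e1 e1) e2)) e1
  have hL : Rels RL x := h.append (by
    simp only [List.forall_mem_cons, List.not_mem_nil, false_imp_iff, implies_true, and_true, Rels]
    constructor
    · have e : evW x [20, 18, 0, 16, 20, 18, 0, 16] =
          x 10 * evW x [18, 0, 16] * x 10 * evW x [18, 0, 16] := by simp [xl, mul_assoc]
      rw [e, ← eX (x := x), ← mul_inv_eq_iff_eq_mul.2 q15, conj_mul, conj_mul, conj_mul]
      nth_rewrite 2 [← xi]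
      rw [ir, ← ri, inv_mul_cancel, mul_one, mul_inv_cancel]
    · obtain ⟨k, e⟩ := c2
      have e1 := cj_comm (evW x wh) (e ▸ (Commute.zpow_left L.ar.symm k).eq :
        (evW x wX * evW x wt * evW x wD) ^ 4 * evW x wa = evW x wa * _)
      have e2 : evW x [20, 0, 12] = x 10 * x 0 * x 6 := by simp [xl, mul_assoc]
      have e3 : evW x wt = x 2 := mul_one _
      rw [← conj_pow, ← conj_mul, ← conj_mul, eX, eD, mul_inv_eq_iff_eq_mul.2 q16,
        mul_inv_eq_iff_eq_mul.2 q17, ez, e3, ← e2, ← evW_rep] at e1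
      rw [evW_append, evW_cons, evW_invA, ← mul_assoc, show xl x 4 = x 2 from rfl, wY, e1,
        show evW x [5] = (x 2)⁻¹ from mul_one _]
      group)
  obtain ⟨y', ey, ty⟩ := exists_y
  have iso := ey.equiv.some.trans ((MulEquiv.subgroupCongr ty).trans topEquiv)
  have : Fact (Nat.Prime 3) := ⟨Nat.prime_three⟩
  have := H10.isSimpleGroup_PSL_fin (F := ZMod 3) 4 (by norm_num) (by norm_num)
  have := iso.isSimpleGroup
  have em : Emb p x 11 := (hom_of_bnd bndL p_rels (by decide +kernel) chL_card hL).emb_of_simple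
    (by norm_num) (ez ▸ L.z1)
  have top := L.eq_top (by
    rw [← eq_of_le_of_card_ge (H := gen (sub x E3) 4) (gen_le fun i hi => mem_c.2 (by
      interval_cases i
      exacts [rfl, by rw [← evW_append x wX] at y; exact y, L.ar, q9]))
      (by rw [c1, card_sub em (by decide +kernel)]; exact chR_card)]
    exact gen_le fun i _ => nthW_mem_gen x (by decide +kernel) i) fun g hg e => by
    obtain ⟨b, hb, e1⟩ := em.cl le_rfl clL (by decide +kernel) g hg
      (List.append_nil _ ▸ (at_cmA x g (by decide +kernel)).2 (by simpa using e))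
    have u : ∀ {w}, wfL 11 [w] = true → evW (upd x 11 g) w = evW x w := fun wf =>
      evW_upd x g (wfL_spec wf List.mem_cons_self)
    have u1 := u (w := wr) (by decide +kernel)
    have u2 := u (w := wj) (by decide +kernel)
    have u3 : xl (upd x 11 g) 22 = g := xl_upd x 11 g
    simp only [List.mem_cons, List.not_mem_nil, or_false] at hb
    rcases hb with rfl | rfl <;>
      simp only [At, evW_append, evW_cons, evW_nil, mul_one, u1, u2, u3] at e1
    exacts [.inl e1, .inr e1]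
  exact ⟨(topEquiv.symm.trans (MulEquiv.subgroupCongr top.symm)).trans (em.equiv.some.symm.trans iso)⟩

end H80.L43

namespace H31.L43
open H54 H27.W Subgroup

theorem final {G : Type*} [Group G] [Finite G] {x : ℕ → G} (h : Rels R0 x)
    (hC : gen x 9 = centralizer {x 0}) (hc : Nat.card (gen x 9) = 1152)
    (n1 : ∀ g, g * x 0 * g⁻¹ ≠ x 0 * x 1) :
    Nonempty (G ≃* Matrix.ProjectiveSpecialLinearGroup (Fin 4) (ZMod 3)) := H80.L43.main h hC hc n1

end H31.L43
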