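import Cfsg.Agent.Lib.McL27.Word
/-! Word models: subgroups generated by words, clauses with an explicit list of solutions (helper80) -/
set_option autoImplicit false
namespace H80.L43
open H54 H27.W

section
variable {G : Type*} [Group G]

/-- the tuple of the words `E` -/
noncomputable def sub (x : ℕ → G) (E : List (List ℕ)) (i : ℕ) : G := evW x (nthW E i)

theorem evW_sub (x : ℕ → G) (E : List (List ℕ)) (w : List ℕ) : evW (sub x E) w = evW x (subW E w) :=
  (evW_subW x E w).symm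

theorem rels_sub {x : ℕ → G} {E R : List (List ℕ)} (h : Rels (R.map (subW E)) x) : Rels R (sub x E) :=
  h.subW

/-- substitution in an equation -/
noncomputable def subA (E : List (List ℕ)) (a : List ℕ × List ℕ) : List ℕ × List ℕ :=
  (subW E a.1, subW E a.2)

theorem at_sub {x : ℕ → G} {E : List (List ℕ)} {a : List ℕ × List ℕ} :
    At (sub x E) a ↔ At x (subA E a) := by
  unfold At subA; rw [evW_sub, evW_sub]

theorem card_sub {M : Type} [Group M] {p : ℕ → M} {x : ℕ → G} {m : ℕ} (h : Emb p x m)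
    {E : List (List ℕ)} (wf : wfL m E = true) (k : ℕ) :
    Nat.card (gen (sub x E) k) = Nat.card (gen (sub p E) k) := by
  obtain ⟨θ, hi, h⟩ := h
  have w : ∀ i, ∀ l ∈ nthW E i, l < 2 * m := fun i => (nthW_mem E i).elim
    (fun e => by rw [e]; exact fun _ h => absurd h List.not_mem_nil) (wfL_spec wf)
  rw [← gen_congr (x := fun i => θ (sub (subGen p m) E i)) (y := sub x E)
      (fun i _ => map_evW_subGen h (w i)),
    ← gen_congr (x := fun i => (gen p m).subtype (sub (subGen p m) E i)) (y := sub p E)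
      (fun i _ => coe_evW_subGen p (w i)), ← map_gen, ← map_gen,
    Subgroup.card_map_of_injective hi, Subgroup.card_map_of_injective (gen p m).subtype_injective]

/-- the word `k s k⁻¹ u⁻¹` -/
noncomputable def cjW (a : List ℕ × List ℕ × List ℕ) : List ℕ :=
  a.2.1 ++ (a.2.2 ++ invA a.2.1 (invA a.1 []))

/-- the atoms `g = k s k⁻¹ u⁻¹` -/
noncomputable def cjT (m : ℕ) (I : List (List ℕ × List ℕ × List ℕ)) : List (List ℕ × List ℕ) :=
  (I.map cjW).map fun w => ([2 * m], w)

theorem at_cjT {x : ℕ → G} {m : ℕ} {g : G} {I : List (List ℕ × List ℕ × List ℕ)}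
    (wf : wfL m (I.map cjW) = true) {a : List ℕ × List ℕ} (ha : a ∈ cjT m I) (h : At (upd x m g) a) :
    ∃ b ∈ I, evW x b.2.1 * evW x b.2.2 * (evW x b.2.1)⁻¹ = g * evW x b.1 := by
  obtain ⟨w, hw, rfl⟩ := List.mem_map.1 ha
  rw [At, evW_upd x g (wfL_spec wf hw), evW_cons, xl_upd, evW_nil, mul_one] at h
  obtain ⟨b, hb, rfl⟩ := List.mem_map.1 hw
  refine ⟨b, hb, ?_⟩
  rw [h, cjW, evW_append, evW_append, evW_invA, evW_invA, evW_nil]
  group

end

variable {M Ω : Type} [Group M] [MulAction M Ω] {c : Cfg} {pt : ℕ → Ω} {p : ℕ → M} {nt : ℕ → ℕ} {m : ℕ}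

theorem card_geW [Finite M] (W : WM c pt p nt m) {ch : Chain} (E F : List (List ℕ)) (k : ℕ)
    (e : band (wfL k F) (chOk c nt m ch (F.map (subW E))) = true) (low : checkLow c ch = true) {N : ℕ}
    (hN : ch.size c.n = N) : N ≤ Nat.card (gen (sub p E) k) := by
  rw [band_eq_true, chOk, band_eq_true] at e
  refine hN ▸ size_le_card W.X W.K (fun s hs => ?_) low
  rw [eq_of_eqL _ _ e.2.2] at hs
  obtain ⟨w, hw, rfl⟩ := List.mem_map.1 hs
  have r := W.rep_evW (wfL_spec e.2.1 hw)
  obtain ⟨f, hf, rfl⟩ := List.mem_map.1 hw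
  exact ⟨_, evW_sub p E f ▸ evW_mem_gen _ (wfL_spec e.1 hf), r⟩

theorem eqs_sub (W : WM c pt p nt m) {E : List (List ℕ)} {L : List (List ℕ × List ℕ)}
    (e : band (wfA m (L.map (subA E))) (allL (eqNet c nt) (L.map (subA E))) = true) :
    ∀ a ∈ L, At (sub p E) a := fun _ ha => at_sub.2 (W.eqs e _ (List.mem_map_of_mem ha))

/-- a clause whose solutions are listed by their codes `D` -/
theorem clD (W : WM c pt p nt m) {ch : Chain} {H : Subgroup M} (a : Good c pt ch H)
    {N P : List (List ℕ × List ℕ)} {I : List (List ℕ × List ℕ × List ℕ)} (D : List ℕ)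
    (e : band (band (wfA (m + 1) N) (wfA (m + 1) P))
      (band (wfL m (I.map cjW)) (eqL D ((I.map cjW).map (cw c nt)))) = true)
    (e' : allElts c (fun g => bimp (allL (atC c nt m g) N)
      (bor (anyL (Nat.beq g) D) (anyL (atC c nt m g) P))) ch c.one = true) :
    Cl H p m N (P ++ cjT m I) := by
  simp only [band_eq_true] at e
  obtain ⟨⟨w1, w2⟩, w3, e⟩ := e
  intro g hg hN
  obtain ⟨q, r, h⟩ := a.forall_of_allElts W.X e' g hg
  rw [bimp_eq_true, allL_iff, bor_eq_true, anyL_iff, anyL_iff] at h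
  rcases h fun a ha => (W.atC_iff r w1 ha).2 (hN a ha) with ⟨d, hd, h⟩ | ⟨a, ha, h⟩
  · rw [eq_of_eqL _ _ e] at hd
    obtain ⟨w, hw, rfl⟩ := List.mem_map.1 hd
    refine ⟨_, List.mem_append_right _ (List.mem_map_of_mem hw), ?_⟩
    rw [At, evW_upd p g (wfL_spec w3 hw), evW_cons, xl_upd, evW_nil, mul_one]
    exact r.eq_of_bot W.K (Nat.eq_of_beq_eq_true h ▸ W.rep_evW (wfL_spec w3 hw))
  · exact ⟨a, List.mem_append_left _ ha, (W.atC_iff r w2 ha).1 h⟩

theorem eqns_lib : True := by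
  have := @sub.eq_1.{0}
  have := @subA.eq_1
  have := @cjW.eq_1
  have := @cjT.eq_1
  trivial

end H80.L43
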