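import Cfsg.Agent.Lib.P43.Pres
import Cfsg.Agent.Lib.X32.EndTC
/-! A presentation of `L₄(3)` on generators `t n a b u v d r c w x` of its 2-local amalgam -/
set_option autoImplicit false
set_option maxRecDepth 100000
namespace H31.L43
open H54
/-- relators on the generators `t n a b u v d r c w x` (indices `0..10`) -/
def R0 : List (List ℕ) := H63.P43.RC ++
  [[16, 16], [16, 0, 16, 0], [16, 2, 16, 2], [16, 4, 16, 6], [16, 6, 16, 4], [16, 8, 16, 10], [16, 10, 16, 8],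
    [16, 12, 16, 12], [16, 14, 16, 14],
   [18, 18], [18, 0, 18, 2], [18, 4, 18, 6], [18, 12, 18, 12], [18, 8, 18, 8, 18, 8, 18, 8, 18, 8],
    [18, 10, 18, 10, 18, 10, 18, 10, 18, 10], [18, 16, 18, 16],
   [20, 20], [20, 0, 20, 0, 16], [20, 4, 6, 8, 10, 16, 20, 0, 8, 10, 16], [20, 14, 2, 20, 14, 2],
    [20, 4, 10, 4, 20, 4, 10, 4, 20, 4, 10, 4, 20, 4, 10, 4, 20, 4, 10, 4],
    [20, 0, 10, 20, 0, 10, 20, 0, 10, 20, 0, 10, 20, 0, 10], [20, 0, 2, 20, 0, 2]]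
end H31.L43
namespace H80.L43
open H54 H63.P43 H31.L43
def RC9 : List (List ℕ) := RC ++ [[16, 16], [16, 0, 16, 0], [16, 2, 16, 2], [16, 4, 16, 6], [16, 6, 16, 4], [16, 8, 16, 10], [16, 10, 16, 8], [16, 12, 16, 12], [16, 14, 16, 14]]
def RB1 : List (List ℕ) := RB ++ [[14, 14], [14, 0, 14, 0], [14, 2, 14, 2], [14, 4, 14, 6], [14, 6, 14, 4], [14, 8, 14, 10], [14, 10, 14, 8], [14, 12, 14, 12]]
def RN : List (List ℕ) := RB1 ++ [[16, 16], [16, 0, 16, 2], [16, 4, 16, 6], [16, 12, 16, 12], [16, 8, 16, 8, 16, 8, 16, 8, 16, 8], [16, 10, 16, 10, 16, 10, 16, 10, 16, 10], [16, 14, 16, 14]]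
def wY : List ℕ := (List.replicate 4 [20, 0, 12]).flatten
noncomputable def RL : List (List ℕ) := R0 ++ [[20, 18, 0, 16, 20, 18, 0, 16], wY ++ 4 :: invA wY [5]]
/-- the generators of `2⁴:S₅` -/
def E1 : List (List ℕ) := [[0], [2], [4], [6], [8], [10], [12], [16], [18]]
/-- the twisted generators -/
def E2 : List (List ℕ) := [[0], [0, 16], [4, 6, 8, 10, 16], [0, 8, 10, 16], [4, 10, 4], [0, 10], [14, 2], [0, 2], [20]]
theorem bndC9 : Bnd RC9 9 1152 :=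
  Bnd.tc bndC (n := 2) (fun g ω => T54.H80C.enum g ω) (by decide) [0, 2, 4, 6, 8, 10, 12, 13, 14, 16] rfl (icol_ge _ rfl)
    [[0],
  [2],
  [4],
  [6],
  [8],
  [10],
  [12],
  [14]]
    [([12, 13], []),
  ([13, 12], [])]
    (by decide +kernel)
theorem bndB1 : Bnd RB1 8 384 :=
  Bnd.tc bndB (n := 2) (fun g ω => T54.H80B.enum g ω) (by decide) [0, 2, 4, 6, 8, 10, 12, 13, 14] rfl (icol_ge _ rfl)
    [[0],
  [2],
  [4],
  [6],
  [8],
  [10],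
  [12]]
    [([12, 13], []),
  ([13, 12], [])]
    (by decide +kernel)
theorem bndN : Bnd RN 9 1920 :=
  Bnd.tc bndB1 (n := 5) (fun g ω => T54.H80N.enum g ω) (by decide) [0, 2, 4, 6, 8, 10, 12, 13, 14, 16] rfl (icol_ge _ rfl)
    [[0],
  [2],
  [4],
  [6],
  [8],
  [10],
  [12],
  [14]]
    [([12, 13], []),
  ([13, 12], [])]
    (by decide +kernel)
theorem bndL : Bnd RL 11 6065280 :=
  Bnd.tc bndN (n := 3159) (fun g ω => T54.H80L.enum g ω) (by decide) [0, 2, 4, 6, 8, 10, 12, 13, 14, 16, 18, 20] rfl (icol_ge _ rfl)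
    [[0],
  [2],
  [4],
  [6],
  [8],
  [10],
  [12],
  [16],
  [18]]
    [([12, 13], []),
  ([13, 12], []),
  ([20, 0, 12, 20, 0, 12, 20, 0, 12, 20, 0, 12, 4, 13, 0, 20, 13, 0, 20, 13, 0, 20, 13, 0, 20, 4], [([], 115), ([20, 0, 12, 20, 0, 12, 20, 0, 12, 20, 0, 12, 4, 13, 1, 21, 13, 1, 21, 13, 1, 21, 13, 1, 21], 5), ([20, 0, 12, 20, 0, 12, 20, 0, 12, 20, 0, 12, 4, 13, 1, 21, 13, 1, 21, 13, 1, 21, 13, 1], 99), ([20, 0, 12, 20, 0, 12, 20, 0, 12, 20, 0, 12, 4, 13, 1, 21, 13, 1, 21, 13, 1, 21, 13], 1), ([20, 0, 12, 20, 0, 12, 20, 0, 12, 20, 0, 12, 4, 13, 1, 21, 13, 1, 21, 13, 1], 99), ([20, 0, 12, 20, 0, 12, 20, 0, 12, 20, 0, 12, 4, 13, 1, 21, 13, 1, 21, 13], 1), ([20, 0, 12, 20, 0, 12, 20, 0, 12, 20, 0, 12, 4, 13, 1, 21, 13, 1], 99), ([20, 0, 12, 20, 0, 12, 20, 0, 12, 20, 0, 12, 4, 13, 1, 21, 13], 1), ([20, 0, 12, 20, 0, 12, 20, 0, 12, 20, 0, 12, 4, 13, 1], 99), ([20,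 0, 12, 20, 0, 12, 20, 0, 12, 20, 0, 12, 4, 13], 1)])]
    (by decide +kernel)
theorem eqns_pres : True := by
  have := @R0.eq_1
  have := @RC9.eq_1
  have := @RB1.eq_1
  have := @RN.eq_1
  have := @wY.eq_1
  have := @RL.eq_1
  have := @E1.eq_1
  have := @E2.eq_1
  trivial
end H80.L43
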