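import Mathlib
import Cfsg.Agent.Base
import Cfsg.Agent.Lib.M12C.Tab

/-! the extraspecial group of order 32 and minus type (helper31; generated) -/

set_option autoImplicit false
set_option maxRecDepth 100000

namespace H31.QME
open H54 (Tr force band)
open H18.TC
noncomputable def T_0 : Tr := (.node (nat_lit 1) (.node (nat_lit 0) (.leaf (nat_lit 0xd2000073f8eff50588caccd69dee566287c80258000485692ac13b82ff176022bc1da073300000001456296c0c7e15dc4978bf00d6613d00258000345a69b46380e2f1b6e33fca9a90f600960000e971d6e12de2cc055f89f7216c52d400000005562a8c421a07f3206c57d411b80ff001e00010d922720f6611d0ada8fb600fe06dc00000001e703ae019c85fa1a7629f009e80be)) (.leaf (nat_lit 0x960001311a6e315f832ec61d0b7924525aa0034800053faa9f5ed22ca5584eca995d52af8003c000115f217e5a4afd91a532067447083a800000007c48ff9041e877e255260a037c867a000000016d2ae25097c0ff4bd413690a740de4025800066cccf989f498a82c7a55f8a3e14fb005a0000fd39fe731d046a47bf0ffd227641f0007800037546fa82dd02b9147835ec0bf01fd)))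 (.node (nat_lit 2) (.leaf (nat_lit 0x1e0001d903be030ea64d8bf997742ce05bbc025800060c2c3848bb1435276849cc99791f0003c0000e1b9b774756a3b0e571aed4264adc4025800048f28fe517c236a4a46e189752bee4003c00014dd287a52549fe1c1127637a48bb9400f0000357667edb112663365465e19731f27003c0000ede1cfc4b46d688f1c1c6a3d4ed39801680006d44dc886fd89bc10f223e8b9412e9)) (.leaf (nat_lit 0x1e143ae8774ee999e5239e572c6e38801e00006252c2a59132f675fcaf991bd131a300960001b77b66f6adcd7b5c55b7ec7240dd8400f00004e6097c1356a56e4f5893ad8b0b9a0003c0002019bdf37f64f5c5f50bc607e56f3b002580005be8b5d1638acf27440c0857962e6b00780001a1ab3b57540c785938b4726a5cccb40000000406c7dd97d0bb604164afc4f769e6e))))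
noncomputable def J_0 : Tr := (.node (nat_lit 1) (.node (nat_lit 0) (.leaf (nat_lit 0x400400800000000000040000010000000000800800c00000000000000000000008000008000000800200200000000060020000000004000005000000000300100000000020000000000000000000000800000100040040000000008000004000000400400000000000000000020000004000000)) (.leaf (nat_lit 0x3001000000000200000000020020040000000000000000000c0000000008000002000800800000400000000040000040000000003001000000000000000100000020008008000002002800800000000100180040000000018004001001001800000a00000000040000000000006002004))) (.node (nat_lit 2) (.leaf (nat_lit 0x6001000000800b00100200000020028008000000001000000400000000080000020008008000006000000800a002003000000400000200000000020000008002002000000800000000100000040010010008000000000000800000000080080000060000000000004000800800c000001)) (.leaf (nat_lit 0x600000200000080028008000000000000400400200400000000000010014004006000000800000200000000040000010004004008000000000000200000080020020000010000002002800800c000000000000400000000000020020010010000000000000000c0000020000008005001))))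
noncomputable def F_0 : Tr := (.node (nat_lit 3) (.node (nat_lit 1) (.node (nat_lit 0) (.leaf (nat_lit 0xef3df9d25183ddbd6336b9ea5310626b16950101)) (.leaf (nat_lit 0xe77fea4e327c1bade717b54e628c8172d8a4a002))) (.node (nat_lit 2) (.leaf (nat_lit 0xd6e74ff9ae5b25de1ea536717b04448c1e042923)) (.leaf (nat_lit 0xdea93f7dcd62e3ced4e62e336b882393e0802544)))) (.node (nat_lit 5) (.node (nat_lit 4) (.leaf (nat_lit 0xce251737df4aa753f3a326b6115ec6a01107b165)) (.leaf (nat_lit 0xc66326bbfe52687af7841ef420dae59a00f82d86))) (.node (nat_lit 6) (.leaf (nat_lit 0xbda0f62d49ff9062907de083bd6715052728b9a7)) (.leaf (nat_lit 0xbda0f62d49ff9062907de083bd6715052728b9a7)))))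
noncomputable def T : Tr := T_0
noncomputable def J : Tr := J_0
noncomputable def F : Tr := F_0
noncomputable def row (u : ℕ) : ℕ := Nat.land (Nat.shiftRight (force (Nat.shiftRight u (nat_lit 3)) T.get) (Nat.mul (Nat.land u (nat_lit 7)) (nat_lit 150))) (nat_lit 0x3fffffffffffffffffffffffffffffffffffff)
noncomputable def jrow (u : ℕ) : ℕ := Nat.land (Nat.shiftRight (force (Nat.shiftRight u (nat_lit 3)) J.get) (Nat.mul (Nat.land u (nat_lit 7)) (nat_lit 117))) (nat_lit 0x1fffffffffffffffffffffffffffff)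
noncomputable def fget (k fx : ℕ) : ℕ := F.get (Nat.add k fx)
noncomputable def wt0 : LT := (.node (nat_lit 2) (.node (nat_lit 0) (.leaf 13 1 [nat_lit 75, nat_lit 0, nat_lit 60])
(.node (nat_lit 1) (.leaf 9 3 [nat_lit 30, nat_lit 15, nat_lit 45])
(.leaf 15 1 [nat_lit 105, nat_lit 0, nat_lit 90])))
(.node (nat_lit 4) (.node (nat_lit 3) (.leaf 1 0 [nat_lit 15, nat_lit 15, nat_lit 15])
(.leaf 9 1 [nat_lit 45, nat_lit 15, nat_lit 30]))
(.leaf 0 0 [])))
noncomputable def wt1 : LT := (.node (nat_lit 2) (.node (nat_lit 0) (.leaf 5 3 [nat_lit 0, nat_lit 75, nat_lit 75])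
(.node (nat_lit 1) (.leaf 3 3 [nat_lit 0, nat_lit 45, nat_lit 45])
(.leaf 5 0 [nat_lit 75, nat_lit 75, nat_lit 0])))
(.node (nat_lit 3) (.leaf 13 3 [nat_lit 60, nat_lit 15, nat_lit 75])
(.leaf 0 0 [])))
noncomputable def wt2 : LT := (.node (nat_lit 1) (.node (nat_lit 0) (.leaf 17 1 [nat_lit 75, nat_lit 30, nat_lit 60])
(.leaf 19 1 [nat_lit 105, nat_lit 30, nat_lit 90]))
(.node (nat_lit 4) (.node (nat_lit 2) (.leaf 3 1 [nat_lit 45, nat_lit 0, nat_lit 0])
(.node (nat_lit 3) (.leaf 3 2 [nat_lit 0, nat_lit 0, nat_lit 45])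
(.leaf 9 2 [nat_lit 15, nat_lit 30, nat_lit 15])))
(.leaf 0 0 [])))
noncomputable def wt3 : LT := (.node (nat_lit 1) (.node (nat_lit 0) (.leaf 17 3 [nat_lit 60, nat_lit 45, nat_lit 75])
(.leaf 9 0 [nat_lit 15, nat_lit 45, nat_lit 15]))
(.leaf 0 0 []))
noncomputable def wt4 : LT := (.node (nat_lit 1) (.node (nat_lit 0) (.leaf 17 2 [nat_lit 30, nat_lit 60, nat_lit 45])
(.leaf 13 2 [nat_lit 0, nat_lit 60, nat_lit 15]))
(.node (nat_lit 2) (.leaf 5 1 [nat_lit 75, nat_lit 0, nat_lit 0])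
(.node (nat_lit 3) (.leaf 5 2 [nat_lit 0, nat_lit 0, nat_lit 75])
(.leaf 0 0 []))))
noncomputable def wt5 : LT := (.node (nat_lit 1) (.node (nat_lit 0) (.leaf 13 0 [nat_lit 15, nat_lit 75, nat_lit 0])
(.leaf 17 0 [nat_lit 45, nat_lit 75, nat_lit 30]))
(.leaf 0 0 []))
noncomputable def wt6 : LT := (.node (nat_lit 0) (.leaf 19 2 [nat_lit 30, nat_lit 90, nat_lit 45])
(.node (nat_lit 1) (.leaf 11 2 [nat_lit 75, nat_lit 90, nat_lit 75])
(.node (nat_lit 2) (.leaf 15 2 [nat_lit 0, nat_lit 90, nat_lit 15])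
(.node (nat_lit 3) (.leaf 7 0 [nat_lit 105])
(.leaf 0 0 [])))))
noncomputable def wt7 : LT := (.node (nat_lit 0) (.leaf 11 0 [nat_lit 75, nat_lit 105, nat_lit 75])
(.leaf 0 0 []))
noncomputable def wt8 : LT := (.leaf 0 0 [])
noncomputable def sl : List (ℕ × ℕ × List ℕ × List ℕ) := []
/-- the inverse column -/
noncomputable def icol (x : ℕ) : ℕ := List.getD [nat_lit 1, nat_lit 0, nat_lit 3, nat_lit 2, nat_lit 5, nat_lit 4, nat_lit 7, nat_lit 6] x x
noncomputable def inv (x : ℕ) : ℕ := Nat.mul (icol (Nat.div x (nat_lit 15))) (nat_lit 15)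
def cols : List ℕ := [nat_lit 120, nat_lit 0, nat_lit 15, nat_lit 30, nat_lit 45, nat_lit 60, nat_lit 75, nat_lit 90, nat_lit 105]
noncomputable def cl : CL := (.cons (nat_lit 0) (nat_lit 15) (nat_lit 0) (nat_lit 0) wt0
(.cons (nat_lit 15) (nat_lit 0) (nat_lit 13) (nat_lit 1) wt1
(.cons (nat_lit 30) (nat_lit 45) (nat_lit 26) (nat_lit 2) wt2
(.cons (nat_lit 45) (nat_lit 30) (nat_lit 39) (nat_lit 3) wt3
(.cons (nat_lit 60) (nat_lit 75) (nat_lit 52) (nat_lit 4) wt4
(.cons (nat_lit 75) (nat_lit 60) (nat_lit 65) (nat_lit 5) wt5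
(.cons (nat_lit 90) (nat_lit 105) (nat_lit 78) (nat_lit 6) wt6
(.cons (nat_lit 105) (nat_lit 90) (nat_lit 91) (nat_lit 7) wt7
.nil))))))))
def rels : List (List ℕ) := [[0, 0, 0, 0],
[1, 1, 2, 2],
[1, 1, 4, 4],
[6, 6],
[3, 0, 2, 0],
[7, 4, 6, 4],
[5, 1, 4, 0],
[7, 1, 6, 0],
[5, 3, 4, 2],
[7, 3, 6, 2]]
def subs : List (List ℕ) := []
noncomputable def chk : ℕ → Bool := rowChk row jrow fget sl cols (nat_lit 32) (nat_lit 32) (nat_lit 32767) (nat_lit 63) (nat_lit 32768) (nat_lit 120) (nat_lit 135) (nat_lit 8191) (nat_lit 6) (nat_lit 63) (nat_lit 5) (nat_lit 31) cl (nat_lit 104) wt8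
theorem p0 : allB chk 5 0 = true := by decide +kernel
theorem all_chk : AllLt chk 32 := by
  have h := AllLt.zero chk
  have h := h.step 32 p0 (by decide +kernel)
  exact h
/-- column `x` of the final table -/
noncomputable def tab (x u : ℕ) : ℕ := ft fget (nat_lit 6) (nat_lit 63) (nat_lit 5) (nat_lit 31) (Nat.mul x (nat_lit 1)) u
theorem enum {G Ω : Type*} [Group G] [MulAction G Ω] (g : ℕ → G) (ω : Ω)
    (hinv : ∀ x, g (icol x) = (g x)⁻¹) (h1 : g 8 = 1)
    (hrels : ∀ R ∈ rels, ev g R = 1) (hsubs : ∀ S ∈ subs, ev g S • ω = ω) :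
    ∃ pt : ℕ → Ω, pt 0 = ω ∧ (∀ K : Subgroup G, (∀ x, g x ∈ K) → ∀ v, ∃ k ∈ K, pt v = k • ω) ∧
      ∀ x, x < 8 → ∀ u, u < 32 → tab x u < 32 ∧ g x • pt u = pt (tab x u) :=
  sound_scaled g ω row jrow fget sl inv icol cols (nat_lit 32) (nat_lit 32) (nat_lit 32767) (nat_lit 63) (nat_lit 32768) (nat_lit 120) (nat_lit 135) (nat_lit 8191) (nat_lit 6) (nat_lit 63) (nat_lit 5) (nat_lit 31) 6 cl (nat_lit 104) wt8 rels subs 15 (nat_lit 1) 8
    (fun _ => Nat.mul_div_cancel _ (by decide)) hinv h1 hrels hsubs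
    (by decide +kernel) (by decide +kernel) all_chk
end H31.QME

namespace H31.QM
open H70.TM H18.TC Subgroup

noncomputable def rt : RT := ⟨nat_lit 32, nat_lit 5, nat_lit 31,
  (.node (nat_lit 15) (.node (nat_lit 7) (.node (nat_lit 3) (.node (nat_lit 1) (.node (nat_lit 0) (.leaf (nat_lit 0xffbbcdeb38bdab49ca307b9ac5a928398a418820))
(.leaf (nat_lit 0xce27220fdfef18d5ab7a302b4bd9f1809c83a4a1)))
(.node (nat_lit 2) (.leaf (nat_lit 0xa5483bd98d41ffedebbc027388c033939eb514c2))
(.leaf (nat_lit 0xbcf02a07abf1b68fa580e6a24cbed574a0d2a8e3))))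
(.node (nat_lit 5) (.node (nat_lit 4) (.leaf (nat_lit 0xb49f97578a4ff47378adeee03162e1a4e2062d04))
(.leaf (nat_lit 0xf7d6a41f199ca95bd8831058def0dbd241183dc5)))
(.node (nat_lit 6) (.leaf (nat_lit 0x6377a5aab420f198c2f670bfe41c1de1533905e6))
(.leaf (nat_lit 0xeafe969677c0891cbe8190f68f1b8c02b5575a07)))))
(.node (nat_lit 11) (.node (nat_lit 9) (.node (nat_lit 8) (.leaf (nat_lit 0xe28de032567e470161d5993474ffa56af61a5e28))
(.leaf (nat_lit 0x6b107ef2958c33820e720bfdfde8ab500d7b3849)))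
(.node (nat_lit 10) (.leaf (nat_lit 0x46da5f1891abaf3a07021dbab600ff4eb997c24a))
(.leaf (nat_lit 0x3e80c4fc700d2d2755f925f8a2b506f6fa2c466b))))
(.node (nat_lit 13) (.node (nat_lit 12) (.leaf (nat_lit 0x4994b3a1e294dc1b5c64cd4a0e77fadf9b08e28c))
(.leaf (nat_lit 0x3279dd6c4fb5c2e94e11c500552fc747d83266ad)))
(.node (nat_lit 14) (.leaf (nat_lit 0xc66f68c3fe5a9acef107496959c8441bc3bd180e))
(.leaf (nat_lit 0xad2309c9acdebdf41d6a29b1920dd7b045de012f))))))
(.node (nat_lit 23) (.node (nat_lit 19) (.node (nat_lit 17) (.node (nat_lit 16) (.leaf (nat_lit 0x9df2fab97dfa51bf19a551c91c0a540d86c07350))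
(.leaf (nat_lit 0x958580d15c378fa4fc0c5a0707e66eadc856f771)))
(.node (nat_lit 18) (.leaf (nat_lit 0x24681cbf686957d603c6d2af3ab878142df49f92))
(.leaf (nat_lit 0x1c1d5163470315c2b53fdaed20d08fcc6e6f23b3))))
(.node (nat_lit 21) (.node (nat_lit 20) (.leaf (nat_lit 0x78ad7844c952c05e74e8f31c194f23262badfdb4))
(.leaf (nat_lit 0x13e5319126e74a052f5bfb42eb5f108e68747995)))
(.node (nat_lit 22) (.leaf (nat_lit 0x892aec091b603ab697e93f277a061978e5e36956))
(.leaf (nat_lit 0x80c347e4fa2b78a030de4765675622c1269fed77)))))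
(.node (nat_lit 27) (.node (nat_lit 25) (.node (nat_lit 24) (.leaf (nat_lit 0xba1194c05d6d263a14b67de219296bd73ceb7d8))
(.leaf (nat_lit 0x70464b5ca03a0c9d6f9d6f84f846b29d30a5b3f9)))
(.node (nat_lit 26) (.leaf (nat_lit 0x5f7c6602f3cbe24c0aaeb411bfa54d2f0f40c87a))
(.leaf (nat_lit 0x5713f2b6d2162037e434bc4fa379606750eacc9b))))
(.node (nat_lit 29) (.node (nat_lit 28) (.leaf (nat_lit 0xda180fa624a0677abb2f8497d6975e31d5810edc))
(.leaf (nat_lit 0xd1cad37a03756560d0588cd5c03369fa16fc92fd)))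
(.node (nat_lit 30) (.leaf (nat_lit 0x14e8e75c18444f19253ae126d6d8a5b7f6bd33e))
(.leaf (nat_lit 0x2835b52c2e191e2846d7a64c93a1bceb3d29d71f))))))),
  (nat_lit 0xf7d7c46b199da95bca23105acea8db3a4a483dc0),
  (nat_lit 0x9c9ef7396a4a507318a529483108410842000000),
  (nat_lit 0x1908320c6420c6420c831046420c241882418821),
  [nat_lit 1, nat_lit 2, nat_lit 3, nat_lit 4]⟩

theorem okA0 : rt.chkA 1 = true := by decide +kernel
theorem okA1 : rt.chkA 2 = true := by decide +kernel
theorem okA2 : rt.chkA 3 = true := by decide +kernel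
theorem okA3 : rt.chkA 4 = true := by decide +kernel
theorem okB : rt.chkB = true := by decide +kernel
noncomputable def tb : GT := ⟨rt, List.forall_mem_cons.2 ⟨okA0, List.forall_mem_cons.2 ⟨okA1, List.forall_mem_cons.2 ⟨okA2, List.forall_mem_cons.2 ⟨okA3, fun _ h => absurd h List.not_mem_nil⟩⟩⟩⟩, okB⟩

theorem hom_chk : homChk tb (nat_lit 0xffa50733bccdf7ac5aa620a938bd4d5a50728c20) 32 QME.tab = true := by decide +kernel

/-- the group -/
abbrev E : Type := El tb

noncomputable def a : E := El.of tb 1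
noncomputable def b : E := El.of tb 2
noncomputable def c : E := El.of tb 3
noncomputable def d : E := El.of tb 4

theorem card : Nat.card E = 32 := El.card tb

theorem eq_top {K : Subgroup E} (h0 : a ∈ K) (h1 : b ∈ K) (h2 : c ∈ K) (h3 : d ∈ K) : K = ⊤ :=
  El.eq_top (List.forall_mem_cons.2 ⟨h0, List.forall_mem_cons.2 ⟨h1, List.forall_mem_cons.2 ⟨h2, List.forall_mem_cons.2 ⟨h3, fun _ h => absurd h List.not_mem_nil⟩⟩⟩⟩)

/-- the relations -/
def Rel {G : Type*} [Group G] (a b c d : G) : Prop :=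
  a * a * a * a = 1 ∧
  b * b = a * a ∧
  c * c = a * a ∧
  d * d = 1 ∧
  a * b * a = b ∧
  c * d * c = d ∧
  a * c = c * a ∧
  a * d = d * a ∧
  b * c = c * b ∧
  b * d = d * b

instance {G : Type*} [Group G] [DecidableEq G] (a b c d : G) : Decidable (Rel a b c d) := by
  unfold Rel; infer_instance

theorem Rel.map {G G' : Type*} [Group G] [Group G'] (f : G →* G') {a b c d : G}
    (h : Rel a b c d) : Rel (f a) (f b) (f c) (f d) := by
  obtain ⟨h0, h1, h2, h3, h4, h5, h6, h7, h8, h9⟩ := h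
  exact ⟨by simpa only [map_mul, map_inv, map_one] using congrArg f h0,
    by simpa only [map_mul, map_inv, map_one] using congrArg f h1,
    by simpa only [map_mul, map_inv, map_one] using congrArg f h2,
    by simpa only [map_mul, map_inv, map_one] using congrArg f h3,
    by simpa only [map_mul, map_inv, map_one] using congrArg f h4,
    by simpa only [map_mul, map_inv, map_one] using congrArg f h5,
    by simpa only [map_mul, map_inv, map_one] using congrArg f h6,
    by simpa only [map_mul, map_inv, map_one] using congrArg f h7,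
    by simpa only [map_mul, map_inv, map_one] using congrArg f h8,
    by simpa only [map_mul, map_inv, map_one] using congrArg f h9⟩

theorem Rel.of_map {G G' : Type*} [Group G] [Group G'] {f : G →* G'} (hf : Function.Injective f)
    {a b c d : G} (h : Rel (f a) (f b) (f c) (f d)) : Rel a b c d := by
  obtain ⟨h0, h1, h2, h3, h4, h5, h6, h7, h8, h9⟩ := h
  exact ⟨hf (by simpa only [map_mul, map_inv, map_one] using h0),
    hf (by simpa only [map_mul, map_inv, map_one] using h1),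
    hf (by simpa only [map_mul, map_inv, map_one] using h2),
    hf (by simpa only [map_mul, map_inv, map_one] using h3),
    hf (by simpa only [map_mul, map_inv, map_one] using h4),
    hf (by simpa only [map_mul, map_inv, map_one] using h5),
    hf (by simpa only [map_mul, map_inv, map_one] using h6),
    hf (by simpa only [map_mul, map_inv, map_one] using h7),
    hf (by simpa only [map_mul, map_inv, map_one] using h8),
    hf (by simpa only [map_mul, map_inv, map_one] using h9)⟩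

theorem Rel.prod {G G' : Type*} [Group G] [Group G'] {a b c d : G} {a' b' c' d' : G'}
    (h : Rel a b c d) (k : Rel a' b' c' d') :
    Rel (a, a') (b, b') (c, c') (d, d') := by
  obtain ⟨h0, h1, h2, h3, h4, h5, h6, h7, h8, h9⟩ := h
  obtain ⟨k0, k1, k2, k3, k4, k5, k6, k7, k8, k9⟩ := k
  exact ⟨Prod.ext h0 k0, Prod.ext h1 k1, Prod.ext h2 k2, Prod.ext h3 k3, Prod.ext h4 k4, Prod.ext h5 k5, Prod.ext h6 k6, Prod.ext h7 k7, Prod.ext h8 k8, Prod.ext h9 k9⟩

theorem Rel.sat {G : Type*} [Group G] {a b c d : G} (h : Rel a b c d) :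
    ∀ R ∈ QME.rels, ev (lt [a, b, c, d]) R = 1 := by
  obtain ⟨h0, h1, h2, h3, h4, h5, h6, h7, h8, h9⟩ := h
  exact List.forall_mem_cons.2 ⟨show a * (a * (a * (a * 1))) = 1 by
      simpa only [mul_assoc, mul_inv_rev, inv_inv, inv_one, mul_one, one_mul] using mul_inv_eq_one.2 h0,
    List.forall_mem_cons.2 ⟨show b * (b * (a⁻¹ * (a⁻¹ * 1))) = 1 by
      simpa only [mul_assoc, mul_inv_rev, inv_inv, inv_one, mul_one, one_mul] using mul_inv_eq_one.2 h1,
    List.forall_mem_cons.2 ⟨show c * (c * (a⁻¹ * (a⁻¹ * 1))) = 1 by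
      simpa only [mul_assoc, mul_inv_rev, inv_inv, inv_one, mul_one, one_mul] using mul_inv_eq_one.2 h2,
    List.forall_mem_cons.2 ⟨show d * (d * 1) = 1 by
      simpa only [mul_assoc, mul_inv_rev, inv_inv, inv_one, mul_one, one_mul] using mul_inv_eq_one.2 h3,
    List.forall_mem_cons.2 ⟨show a * (b * (a * (b⁻¹ * 1))) = 1 by
      simpa only [mul_assoc, mul_inv_rev, inv_inv, inv_one, mul_one, one_mul] using mul_inv_eq_one.2 h4,
    List.forall_mem_cons.2 ⟨show c * (d * (c * (d⁻¹ * 1))) = 1 by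
      simpa only [mul_assoc, mul_inv_rev, inv_inv, inv_one, mul_one, one_mul] using mul_inv_eq_one.2 h5,
    List.forall_mem_cons.2 ⟨show a * (c * (a⁻¹ * (c⁻¹ * 1))) = 1 by
      simpa only [mul_assoc, mul_inv_rev, inv_inv, inv_one, mul_one, one_mul] using mul_inv_eq_one.2 h6,
    List.forall_mem_cons.2 ⟨show a * (d * (a⁻¹ * (d⁻¹ * 1))) = 1 by
      simpa only [mul_assoc, mul_inv_rev, inv_inv, inv_one, mul_one, one_mul] using mul_inv_eq_one.2 h7,
    List.forall_mem_cons.2 ⟨show b * (c * (b⁻¹ * (c⁻¹ * 1))) = 1 by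
      simpa only [mul_assoc, mul_inv_rev, inv_inv, inv_one, mul_one, one_mul] using mul_inv_eq_one.2 h8,
    List.forall_mem_cons.2 ⟨show b * (d * (b⁻¹ * (d⁻¹ * 1))) = 1 by
      simpa only [mul_assoc, mul_inv_rev, inv_inv, inv_one, mul_one, one_mul] using mul_inv_eq_one.2 h9,
    fun _ h => absurd h List.not_mem_nil⟩⟩⟩⟩⟩⟩⟩⟩⟩⟩

theorem Rel.of_sat {G : Type*} [Group G] {a b c d : G}
    (h : ∀ R ∈ QME.rels, ev (lt [a, b, c, d]) R = 1) : Rel a b c d := by
  obtain ⟨h0, h⟩ := List.forall_mem_cons.1 h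
  obtain ⟨h1, h⟩ := List.forall_mem_cons.1 h
  obtain ⟨h2, h⟩ := List.forall_mem_cons.1 h
  obtain ⟨h3, h⟩ := List.forall_mem_cons.1 h
  obtain ⟨h4, h⟩ := List.forall_mem_cons.1 h
  obtain ⟨h5, h⟩ := List.forall_mem_cons.1 h
  obtain ⟨h6, h⟩ := List.forall_mem_cons.1 h
  obtain ⟨h7, h⟩ := List.forall_mem_cons.1 h
  obtain ⟨h8, h⟩ := List.forall_mem_cons.1 h
  obtain ⟨h9, h⟩ := List.forall_mem_cons.1 h
  exact ⟨mul_inv_eq_one.1 (by simpa only [mul_assoc, mul_inv_rev, inv_inv, inv_one, mul_one, one_mul] using (show a * (a * (a * (a * 1))) = 1 from h0)),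
    mul_inv_eq_one.1 (by simpa only [mul_assoc, mul_inv_rev, inv_inv, inv_one, mul_one, one_mul] using (show b * (b * (a⁻¹ * (a⁻¹ * 1))) = 1 from h1)),
    mul_inv_eq_one.1 (by simpa only [mul_assoc, mul_inv_rev, inv_inv, inv_one, mul_one, one_mul] using (show c * (c * (a⁻¹ * (a⁻¹ * 1))) = 1 from h2)),
    mul_inv_eq_one.1 (by simpa only [mul_assoc, mul_inv_rev, inv_inv, inv_one, mul_one, one_mul] using (show d * (d * 1) = 1 from h3)),
    mul_inv_eq_one.1 (by simpa only [mul_assoc, mul_inv_rev, inv_inv, inv_one, mul_one, one_mul] using (show a * (b * (a * (b⁻¹ * 1))) = 1 from h4)),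
    mul_inv_eq_one.1 (by simpa only [mul_assoc, mul_inv_rev, inv_inv, inv_one, mul_one, one_mul] using (show c * (d * (c * (d⁻¹ * 1))) = 1 from h5)),
    mul_inv_eq_one.1 (by simpa only [mul_assoc, mul_inv_rev, inv_inv, inv_one, mul_one, one_mul] using (show a * (c * (a⁻¹ * (c⁻¹ * 1))) = 1 from h6)),
    mul_inv_eq_one.1 (by simpa only [mul_assoc, mul_inv_rev, inv_inv, inv_one, mul_one, one_mul] using (show a * (d * (a⁻¹ * (d⁻¹ * 1))) = 1 from h7)),
    mul_inv_eq_one.1 (by simpa only [mul_assoc, mul_inv_rev, inv_inv, inv_one, mul_one, one_mul] using (show b * (c * (b⁻¹ * (c⁻¹ * 1))) = 1 from h8)),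
    mul_inv_eq_one.1 (by simpa only [mul_assoc, mul_inv_rev, inv_inv, inv_one, mul_one, one_mul] using (show b * (d * (b⁻¹ * (d⁻¹ * 1))) = 1 from h9))⟩

theorem rel : Rel a b c d := by decide +kernel

theorem model {G : Type*} [Group G] {a' b' c' d' : G} (h : Rel a' b' c' d') :
    ∃ φ : E →* G, φ a = a' ∧ φ b = b' ∧ φ c = c' ∧ φ d = d' := by
  obtain ⟨pt, h0, -, hT⟩ := QME.enum (lt [a', b', c', d']) (1 : G)
    (lt_icol _ _ (k := 4) rfl (by decide +kernel)) (lt_ge le_rfl) h.sat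
    (fun _ h => absurd h List.not_mem_nil)
  obtain ⟨φ, hφ⟩ := exists_hom tb (l := [a', b', c', d']) rfl h0 hT hom_chk
  exact ⟨φ, by simpa only [List.cons.injEq, and_true] using
    (show [φ a, φ b, φ c, φ d] = [a', b', c', d'] from hφ)⟩

end H31.QM
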