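import Mathlib
import Cfsg.Agent.Base
import Cfsg.Agent.Lib.M12C.Tab

/-! the group `S₃ × S₃` (helper31; generated) -/

set_option autoImplicit false
set_option maxRecDepth 100000

namespace H31.Y36E
open H54 (Tr force band)
open H18.TC
noncomputable def T_0 : Tr := (.node (nat_lit 1) (.node (nat_lit 0) (.leaf (nat_lit 0x5a0001b14b569155459ac0ff03b7067a09f4034800020fe43fcf561cad5462ffb915a223400780000f961f6c20763dfcd779872256c4bd802580003a5a75b433f8ffa0f6020cc71a8ef500000001fd7406e335e1cc031e84ff0b6e11dc01680005362a4c4bd9093302fe17f015c02f8001e00011da23f41cea46d821b823800fe03fc0000000227242e47dd06bb0a7806f409f00be)) (.leaf (nat_lit 0x960002190c3e10df869bc459877b174e319c034800051faa5f57112aa37d5ca7e5a74b429009600017912f622de65df4c5d1a2f32565fac01680005746af8c47e97320ff621c051509aa001e000121f237e4b488b95994b7e643f289e401680004c48999091b0ebe19ce35a879d8dfb00960001092a16522fc47d49d415eb267449e801680006e4cda985f3946806f00ff825e057c))) (.node (nat_lit 2) (.leaf (nat_lit 0x3c0001cceba5d296e4f9ca959376385e6dbc00f00006b70d7e1a4f335f6f4ccbd19f8b531001e000140f279e2b5629e06da8b2712e627cc00f000063bec47cb5c156a2c6c53a0c1918f200960000fdd1efa3bda79e57513ce0414a809402580003b7673ece3c9e2c56470d8529224a40096000205e3f7c7bc1068601cbe7181ccfb9801e00007ac0f080d58197c33e46ce8dd41be8))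 (.node (nat_lit 3) (.leaf (nat_lit 0x1df7bdaf8442f8b9e963b62793aeb74025800088610bc20b741e0875b098e30e481c009600017d92ef25ac6b7c5dd02e6c603ec57c02580005866adcd538ada28542abb562f2d1e001e000135aa5f54dca95d144f46dc48da93b40078000436c83d919a2724613ee774ff6206c00d20001b3bb6f78a38e275c1a37697e5d04b801680008d391d70a140c3715d434d46580b70)) (.leaf (nat_lit 0x9600023d3c66788bb139a392455e8fc3178402580007550e5a1c33449c744ae37dd903c6000d200013b527ea653ed1a62ce286459c6b28c000000061d6c8ad9d4b25e723ac1958d12fe2)))))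
noncomputable def J_0 : Tr := (.node (nat_lit 1) (.node (nat_lit 0) (.leaf (nat_lit 0x800000140040000000010002002003000000000000100000000000000008002002001000800000200000000060020010000000000002000000000200000000000060008008000000000000000200200300000080000000010004000000000400400200000000000000000000000000000)) (.leaf (nat_lit 0x30010008000002000001000200200300000000000040010000000000000c004002000000000000600000000040020008008008000000000000000400000180000050010008000000002000000200200200000080000000014004002000001000000600000000000020028008008000001))) (.node (nat_lit 2) (.leaf (nat_lit 0x20000010002002000001800000000300000080010010010000000000000000000600000040040020000008000000002000400400000200000000030010008000006000000000000000180080000000010000000000000000c004000000000800400600000080000010010008000000001)) (.node (nat_lit 3) (.leaf (nat_lit 0x40000000000000006000800800000000180080040000010000000000000000c004002000000800000200000000060020000000004002000000000000400200180000030010008000000002000000000000180080040010010018000000000002000000000000000040000008008000000002))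 (.leaf (nat_lit 0x30010008000002001001800000000180080000000010000004001001001800000400000200040000000008000000004000000c001001)))))
noncomputable def F_0 : Tr := (.node (nat_lit 3) (.node (nat_lit 1) (.node (nat_lit 0) (.leaf (nat_lit 0x79f71d8a382149344f40e30d69b65761651518414308b24a207001)) (.leaf (nat_lit 0x79f71d8a382149344f40e30d69b65761651518414308b24a207001))) (.node (nat_lit 2) (.leaf (nat_lit 0x8606da75c4d28e258a24b6177de38510640f65550121134c0031c2)) (.leaf (nat_lit 0x6da8e24d27de8602d551928975c18d3111445985c704e40f080203)))) (.node (nat_lit 5) (.node (nat_lit 4) (.leaf (nat_lit 0x6635a145f39d2db8886201d519378341c08d6812975120053cc244)) (.leaf (nat_lit 0x89981679170e68b8d72215074867cf0dd3026c905855310040d285))) (.node (nat_lit 6) (.leaf (nat_lit 0x61755440f34c2892238878601440df78275c05b6995804d244e2c6)) (.leaf (nat_lit 0x61755440f34c2892238878601440df78275c05b6995804d244e2c6)))))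
noncomputable def T : Tr := T_0
noncomputable def J : Tr := J_0
noncomputable def F : Tr := F_0
noncomputable def row (u : ℕ) : ℕ := Nat.land (Nat.shiftRight (force (Nat.shiftRight u (nat_lit 3)) T.get) (Nat.mul (Nat.land u (nat_lit 7)) (nat_lit 150))) (nat_lit 0x3fffffffffffffffffffffffffffffffffffff)
noncomputable def jrow (u : ℕ) : ℕ := Nat.land (Nat.shiftRight (force (Nat.shiftRight u (nat_lit 3)) J.get) (Nat.mul (Nat.land u (nat_lit 7)) (nat_lit 117))) (nat_lit 0x1fffffffffffffffffffffffffffff)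
noncomputable def fget (k fx : ℕ) : ℕ := F.get (Nat.add k fx)
noncomputable def wt0 : LT := (.node (nat_lit 0) (.leaf 1 0 [nat_lit 15])
(.node (nat_lit 1) (.leaf 9 1 [nat_lit 45, nat_lit 0, nat_lit 30])
(.node (nat_lit 2) (.leaf 11 3 [nat_lit 75, nat_lit 15, nat_lit 75])
(.leaf 0 0 []))))
noncomputable def wt1 : LT := (.node (nat_lit 1) (.node (nat_lit 0) (.leaf 15 0 [nat_lit 105, nat_lit 15, nat_lit 90])
(.leaf 9 3 [nat_lit 30, nat_lit 15, nat_lit 45]))
(.leaf 0 0 []))
noncomputable def wt2 : LT := (.node (nat_lit 0) (.leaf 7 1 [nat_lit 75, nat_lit 30, nat_lit 60])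
(.node (nat_lit 2) (.node (nat_lit 1) (.leaf 3 0 [nat_lit 45, nat_lit 45])
(.leaf 9 2 [nat_lit 0, nat_lit 30, nat_lit 15]))
(.node (nat_lit 3) (.leaf 17 0 [nat_lit 105, nat_lit 45, nat_lit 105])
(.leaf 0 0 []))))
noncomputable def wt3 : LT := (.node (nat_lit 0) (.leaf 7 3 [nat_lit 60, nat_lit 45, nat_lit 75])
(.leaf 0 0 []))
noncomputable def wt4 : LT := (.node (nat_lit 0) (.leaf 5 0 [nat_lit 75, nat_lit 75])
(.node (nat_lit 1) (.leaf 7 2 [nat_lit 30, nat_lit 60, nat_lit 45])
(.node (nat_lit 2) (.leaf 11 0 [nat_lit 15, nat_lit 75, nat_lit 15])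
(.node (nat_lit 3) (.leaf 19 2 [nat_lit 90, nat_lit 60, nat_lit 105])
(.leaf 0 0 [])))))
noncomputable def wt5 : LT := (.node (nat_lit 1) (.node (nat_lit 0) (.leaf 7 0 [nat_lit 45, nat_lit 75, nat_lit 30])
(.leaf 19 0 [nat_lit 105, nat_lit 75, nat_lit 90]))
(.leaf 0 0 []))
noncomputable def wt6 : LT := (.node (nat_lit 0) (.leaf 19 1 [nat_lit 75, nat_lit 90, nat_lit 60])
(.node (nat_lit 1) (.leaf 15 1 [nat_lit 15, nat_lit 90, nat_lit 0])
(.node (nat_lit 2) (.leaf 13 0 [nat_lit 105])
(.node (nat_lit 3) (.leaf 17 3 [nat_lit 45, nat_lit 105, nat_lit 45])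
(.leaf 0 0 [])))))
noncomputable def wt7 : LT := (.node (nat_lit 0) (.leaf 15 3 [nat_lit 0, nat_lit 105, nat_lit 15])
(.leaf 0 0 []))
noncomputable def wt8 : LT := (.leaf 0 0 [])
noncomputable def sl : List (ℕ × ℕ × List ℕ × List ℕ) := []
/-- the inverse column -/
noncomputable def icol (x : ℕ) : ℕ := List.getD [nat_lit 1, nat_lit 0, nat_lit 3, nat_lit 2, nat_lit 5, nat_lit 4, nat_lit 7, nat_lit 6] x x
noncomputable def inv (x : ℕ) : ℕ := Nat.mul (icol (Nat.div x (nat_lit 15))) (nat_lit 15)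
def cols : List ℕ := [nat_lit 120, nat_lit 0, nat_lit 15, nat_lit 30, nat_lit 45, nat_lit 60, nat_lit 75, nat_lit 90, nat_lit 105]
noncomputable def cl : CL := (.cons (nat_lit 0) (nat_lit 15) (nat_lit 0) (nat_lit 0) wt0
(.cons (nat_lit 15) (nat_lit 0) (nat_lit 13) (nat_lit 1) wt1
(.cons (nat_lit 30) (nat_lit 45) (nat_lit 26) (nat_lit 2) wt2
(.cons (nat_lit 45) (nat_lit 30) (nat_lit 39) (nat_lit 3) wt3
(.cons (nat_lit 60) (nat_lit 75) (nat_lit 52) (nat_lit 4) wt4
(.cons (nat_lit 75) (nat_lit 60) (nat_lit 65) (nat_lit 5) wt5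
(.cons (nat_lit 90) (nat_lit 105) (nat_lit 78) (nat_lit 6) wt6
(.cons (nat_lit 105) (nat_lit 90) (nat_lit 91) (nat_lit 7) wt7
.nil))))))))
def rels : List (List ℕ) := [[0, 0],
[2, 2, 2],
[4, 4, 4],
[5, 3, 4, 2],
[3, 1, 2, 0],
[4, 0, 4, 0],
[6, 6],
[1, 7, 0, 6],
[2, 6, 2, 6],
[5, 7, 4, 6]]
def subs : List (List ℕ) := []
noncomputable def chk : ℕ → Bool := rowChk row jrow fget sl cols (nat_lit 36) (nat_lit 36) (nat_lit 32767) (nat_lit 63) (nat_lit 32768) (nat_lit 120) (nat_lit 135) (nat_lit 8191) (nat_lit 6) (nat_lit 63) (nat_lit 6) (nat_lit 63) cl (nat_lit 104) wt8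
theorem p0 : allB chk 6 0 = true := by decide +kernel
theorem all_chk : AllLt chk 36 := by
  have h := AllLt.zero chk
  have h := h.step 36 p0 (by decide +kernel)
  exact h
/-- column `x` of the final table -/
noncomputable def tab (x u : ℕ) : ℕ := ft fget (nat_lit 6) (nat_lit 63) (nat_lit 6) (nat_lit 63) (Nat.mul x (nat_lit 1)) u
theorem enum {G Ω : Type*} [Group G] [MulAction G Ω] (g : ℕ → G) (ω : Ω)
    (hinv : ∀ x, g (icol x) = (g x)⁻¹) (h1 : g 8 = 1)
    (hrels : ∀ R ∈ rels, ev g R = 1) (hsubs : ∀ S ∈ subs, ev g S • ω = ω) :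
    ∃ pt : ℕ → Ω, pt 0 = ω ∧ (∀ K : Subgroup G, (∀ x, g x ∈ K) → ∀ v, ∃ k ∈ K, pt v = k • ω) ∧
      ∀ x, x < 8 → ∀ u, u < 36 → tab x u < 36 ∧ g x • pt u = pt (tab x u) :=
  sound_scaled g ω row jrow fget sl inv icol cols (nat_lit 36) (nat_lit 36) (nat_lit 32767) (nat_lit 63) (nat_lit 32768) (nat_lit 120) (nat_lit 135) (nat_lit 8191) (nat_lit 6) (nat_lit 63) (nat_lit 6) (nat_lit 63) 6 cl (nat_lit 104) wt8 rels subs 15 (nat_lit 1) 8
    (fun _ => Nat.mul_div_cancel _ (by decide)) hinv h1 hrels hsubs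
    (by decide +kernel) (by decide +kernel) all_chk
end H31.Y36E

namespace H31.Y36
open H70.TM H18.TC Subgroup

noncomputable def rt : RT := ⟨nat_lit 36, nat_lit 6, nat_lit 63,
  (.node (nat_lit 17) (.node (nat_lit 8) (.node (nat_lit 3) (.node (nat_lit 1) (.node (nat_lit 0) (.leaf (nat_lit 0x8e28607de75c6da6585d65544d24503ce34c2ca2481c61440c2040))
(.leaf (nat_lit 0x75a7176d48e17e248d81025e3992962136060d154f10c0872c5001)))
(.node (nat_lit 2) (.leaf (nat_lit 0x86065830b7121978e235f78345d1db04a6965445004d03ce248142))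
(.leaf (nat_lit 0x39329120f8a07a310784215f7587156da64005759448b40d309183))))
(.node (nat_lit 5) (.node (nat_lit 4) (.leaf (nat_lit 0x7de5958e26d075430b26181a3c615c4c80d96025ce05244034a1c4))
(.leaf (nat_lit 0x71748d18385932075a61b50b2a311f01189024778139621354f085)))
(.node (nat_lit 6) (.leaf (nat_lit 0x8a382179f38a21361945558f6845c251d1cb31c15b3402520500c6))
(.node (nat_lit 7) (.leaf (nat_lit 0x6d440975a7d68de18355c5e220c0a138f2d2345813019281611107))
(.leaf (nat_lit 0x6588e259549d40d86068c2c91dc4c61445df78e0c245b04a5003c8))))))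
(.node (nat_lit 12) (.node (nat_lit 10) (.node (nat_lit 9) (.leaf (nat_lit 0x2911070018182e13936483cc72249e1978c214d7c37556da594409))
(.leaf (nat_lit 0x59530b6584064897de0e388d15b05d1c25218006843dc4c85ce44a)))
(.node (nat_lit 11) (.leaf (nat_lit 0x4ce44a3c869751d1c470509b8cd8497e248102041e64359819530b))
(.leaf (nat_lit 0x69d5dc51b4d13ce3522894088878057a31031a109f6015590162cc))))
(.node (nat_lit 14) (.node (nat_lit 13) (.leaf (nat_lit 0x20f08539379589f00158a4636cb4207543041c985a19870365748d))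
(.leaf (nat_lit 0x30b7de86019b7035955196170503d244026388834a15d1c26844ce)))
(.node (nat_lit 15) (.leaf (nat_lit 0x48d75a4096635987178860d512138c08781b5132c529f01178120f))
(.node (nat_lit 16) (.leaf (nat_lit 0x8216192cc2840118a31de7c15ce3480dc4d55923c668251d15b250))
(.leaf (nat_lit 0x40918348d58c6556d42dd69809f02310579c5c188722138f813291)))))))
(.node (nat_lit 26) (.node (nat_lit 21) (.node (nat_lit 19) (.node (nat_lit 18) (.leaf (nat_lit 0x79f5568a320238f2cc16085350024a69b05865045d0c45c61dc352))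
(.leaf (nat_lit 0x1836d471731f84b40979236001621928155d68f6110a3105887393)))
(.node (nat_lit 20) (.leaf (nat_lit 0x1073930856225592918c00564a074b40d8483da30971e1977c36d4))
(.leaf (nat_lit 0x44a1c40405cd0dc4ce48f20685a6543207450986cb8c97e241e595))))
(.node (nat_lit 23) (.node (nat_lit 22) (.leaf (nat_lit 0x5dc3520c644704a69d1146c081360f2e138941920c8857a309f556))
(.leaf (nat_lit 0x8500110754b61620f30e4d941e1a24897ca4438cd6e075485a717)))
(.node (nat_lit 24) (.leaf (nat_lit 0x3c81424ce50969b04041129d7c35978de18711572230d84b4a0658))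
(.node (nat_lit 25) (.leaf (nat_lit 0x51b25069d3c54c80c609770e78155189f00d4962a32c780c121619))
(.leaf (nat_lit 0x120f2912de80c0857c41e11956d870358e4d46574224898cd75a))))))
(.node (nat_lit 30) (.node (nat_lit 28) (.node (nat_lit 27) (.leaf (nat_lit 0x6198a355610e0878214cb30534a68025245e7dd0505c80dc3c651b))
(.leaf (nat_lit 0x5562cc61908010579f0628c72480ce3503e08464d250a69b45d5dc)))
(.node (nat_lit 29) (.leaf (nat_lit 0x2cc79f8210082815563d86510c25045c61628db1dc24e3504d269d))
(.leaf (nat_lit 0x1c44ce14235a25244a7410106578c359870f2221958543206cb7de))))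
(.node (nat_lit 32) (.node (nat_lit 31) (.leaf (nat_lit 0x35269d2501d31445dc3831826118815592946e301680f2e120c79f))
(.leaf (nat_lit 0x1420401c42433503c819339259431a6556d128b7587d78de722860)))
(.node (nat_lit 33) (.leaf (nat_lit 0x2500c63521411c251b01a74454f2d361621770c39979189f2a3821))
(.node (nat_lit 34) (.leaf (nat_lit 0x403c844a0d45c61426c711c3097cd84b41339e4a059a6557588e2))
(.leaf (nat_lit 0xc651b5dc04f44025020d48a2c578780c09a75f1215536163998a3)))))))),
  (nat_lit 0x6a25e025575c4233588547964d245b14e6432ca7c21c63c4308040),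
  (nat_lit 0x6585955144903cd30b2492481c61451440c30c2082041040000000),
  (nat_lit 0x821040c10840c21041030430841030821030440c21030840c2041),
  [nat_lit 1, nat_lit 2, nat_lit 3, nat_lit 4]⟩

theorem okA0 : rt.chkA 1 = true := by decide +kernel
theorem okA1 : rt.chkA 2 = true := by decide +kernel
theorem okA2 : rt.chkA 3 = true := by decide +kernel
theorem okA3 : rt.chkA 4 = true := by decide +kernel
theorem okB : rt.chkB = true := by decide +kernel
noncomputable def tb : GT := ⟨rt, List.forall_mem_cons.2 ⟨okA0, List.forall_mem_cons.2 ⟨okA1, List.forall_mem_cons.2 ⟨okA2, List.forall_mem_cons.2 ⟨okA3, fun _ h => absurd h List.not_mem_nil⟩⟩⟩⟩, okB⟩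

theorem hom_chk : homChk tb (nat_lit 0x7e37614188a05de4db70d54f65a59421148528e3032c91c6102040) 36 Y36E.tab = true := by decide +kernel

/-- the group -/
abbrev E : Type := El tb

noncomputable def n : E := El.of tb 1
noncomputable def d : E := El.of tb 2
noncomputable def e : E := El.of tb 3
noncomputable def c : E := El.of tb 4

theorem card : Nat.card E = 36 := El.card tb

theorem eq_top {K : Subgroup E} (h0 : n ∈ K) (h1 : d ∈ K) (h2 : e ∈ K) (h3 : c ∈ K) : K = ⊤ :=
  El.eq_top (List.forall_mem_cons.2 ⟨h0, List.forall_mem_cons.2 ⟨h1, List.forall_mem_cons.2 ⟨h2, List.forall_mem_cons.2 ⟨h3, fun _ h => absurd h List.not_mem_nil⟩⟩⟩⟩)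

/-- the relations -/
def Rel {G : Type*} [Group G] (n d e c : G) : Prop :=
  n * n = 1 ∧
  d * d * d = 1 ∧
  e * e * e = 1 ∧
  d * e = e * d ∧
  n * d = d * n ∧
  n * e * n = e⁻¹ ∧
  c * c = 1 ∧
  c * n = n * c ∧
  c * d * c = d⁻¹ ∧
  c * e = e * c

instance {G : Type*} [Group G] [DecidableEq G] (n d e c : G) : Decidable (Rel n d e c) := by
  unfold Rel; infer_instance

theorem Rel.map {G G' : Type*} [Group G] [Group G'] (f : G →* G') {n d e c : G}
    (h : Rel n d e c) : Rel (f n) (f d) (f e) (f c) := by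
  obtain ⟨h0, h1, h2, h3, h4, h5, h6, h7, h8, h9⟩ := h
  exact ⟨by simpa only [map_mul, map_inv, map_one] using congrArg f h0,
    by simpa only [map_mul, map_inv, map_one] using congrArg f h1,
    by simpa only [map_mul, map_inv, map_one] using congrArg f h2,
    by simpa only [map_mul, map_inv, map_one] using congrArg f h3,
    by simpa only [map_mul, map_inv, map_one] using congrArg f h4,
    by simpa only [map_mul, map_inv, map_one] using congrArg f h5,
    by simpa only [map_mul, map_inv, map_one] using congrArg f h6,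
    by simpa only [map_mul, map_inv, map_one] using congrArg f h7,
    by simpa only [map_mul, map_inv, map_one] using congrArg f h8,
    by simpa only [map_mul, map_inv, map_one] using congrArg f h9⟩

theorem Rel.of_map {G G' : Type*} [Group G] [Group G'] {f : G →* G'} (hf : Function.Injective f)
    {n d e c : G} (h : Rel (f n) (f d) (f e) (f c)) : Rel n d e c := by
  obtain ⟨h0, h1, h2, h3, h4, h5, h6, h7, h8, h9⟩ := h
  exact ⟨hf (by simpa only [map_mul, map_inv, map_one] using h0),
    hf (by simpa only [map_mul, map_inv, map_one] using h1),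
    hf (by simpa only [map_mul, map_inv, map_one] using h2),
    hf (by simpa only [map_mul, map_inv, map_one] using h3),
    hf (by simpa only [map_mul, map_inv, map_one] using h4),
    hf (by simpa only [map_mul, map_inv, map_one] using h5),
    hf (by simpa only [map_mul, map_inv, map_one] using h6),
    hf (by simpa only [map_mul, map_inv, map_one] using h7),
    hf (by simpa only [map_mul, map_inv, map_one] using h8),
    hf (by simpa only [map_mul, map_inv, map_one] using h9)⟩

theorem Rel.prod {G G' : Type*} [Group G] [Group G'] {n d e c : G} {n' d' e' c' : G'}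
    (h : Rel n d e c) (k : Rel n' d' e' c') :
    Rel (n, n') (d, d') (e, e') (c, c') := by
  obtain ⟨h0, h1, h2, h3, h4, h5, h6, h7, h8, h9⟩ := h
  obtain ⟨k0, k1, k2, k3, k4, k5, k6, k7, k8, k9⟩ := k
  exact ⟨Prod.ext h0 k0, Prod.ext h1 k1, Prod.ext h2 k2, Prod.ext h3 k3, Prod.ext h4 k4, Prod.ext h5 k5, Prod.ext h6 k6, Prod.ext h7 k7, Prod.ext h8 k8, Prod.ext h9 k9⟩

theorem Rel.sat {G : Type*} [Group G] {n d e c : G} (h : Rel n d e c) :
    ∀ R ∈ Y36E.rels, ev (lt [n, d, e, c]) R = 1 := by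
  obtain ⟨h0, h1, h2, h3, h4, h5, h6, h7, h8, h9⟩ := h
  exact List.forall_mem_cons.2 ⟨show n * (n * 1) = 1 by
      simpa only [mul_assoc, mul_inv_rev, inv_inv, inv_one, mul_one, one_mul] using mul_inv_eq_one.2 h0,
    List.forall_mem_cons.2 ⟨show d * (d * (d * 1)) = 1 by
      simpa only [mul_assoc, mul_inv_rev, inv_inv, inv_one, mul_one, one_mul] using mul_inv_eq_one.2 h1,
    List.forall_mem_cons.2 ⟨show e * (e * (e * 1)) = 1 by
      simpa only [mul_assoc, mul_inv_rev, inv_inv, inv_one, mul_one, one_mul] using mul_inv_eq_one.2 h2,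
    List.forall_mem_cons.2 ⟨show d * (e * (d⁻¹ * (e⁻¹ * 1))) = 1 by
      simpa only [mul_assoc, mul_inv_rev, inv_inv, inv_one, mul_one, one_mul] using mul_inv_eq_one.2 h3,
    List.forall_mem_cons.2 ⟨show n * (d * (n⁻¹ * (d⁻¹ * 1))) = 1 by
      simpa only [mul_assoc, mul_inv_rev, inv_inv, inv_one, mul_one, one_mul] using mul_inv_eq_one.2 h4,
    List.forall_mem_cons.2 ⟨show n * (e * (n * (e * 1))) = 1 by
      simpa only [mul_assoc, mul_inv_rev, inv_inv, inv_one, mul_one, one_mul] using mul_inv_eq_one.2 h5,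
    List.forall_mem_cons.2 ⟨show c * (c * 1) = 1 by
      simpa only [mul_assoc, mul_inv_rev, inv_inv, inv_one, mul_one, one_mul] using mul_inv_eq_one.2 h6,
    List.forall_mem_cons.2 ⟨show c * (n * (c⁻¹ * (n⁻¹ * 1))) = 1 by
      simpa only [mul_assoc, mul_inv_rev, inv_inv, inv_one, mul_one, one_mul] using mul_inv_eq_one.2 h7,
    List.forall_mem_cons.2 ⟨show c * (d * (c * (d * 1))) = 1 by
      simpa only [mul_assoc, mul_inv_rev, inv_inv, inv_one, mul_one, one_mul] using mul_inv_eq_one.2 h8,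
    List.forall_mem_cons.2 ⟨show c * (e * (c⁻¹ * (e⁻¹ * 1))) = 1 by
      simpa only [mul_assoc, mul_inv_rev, inv_inv, inv_one, mul_one, one_mul] using mul_inv_eq_one.2 h9,
    fun _ h => absurd h List.not_mem_nil⟩⟩⟩⟩⟩⟩⟩⟩⟩⟩

theorem Rel.of_sat {G : Type*} [Group G] {n d e c : G}
    (h : ∀ R ∈ Y36E.rels, ev (lt [n, d, e, c]) R = 1) : Rel n d e c := by
  obtain ⟨h0, h⟩ := List.forall_mem_cons.1 h
  obtain ⟨h1, h⟩ := List.forall_mem_cons.1 h
  obtain ⟨h2, h⟩ := List.forall_mem_cons.1 h
  obtain ⟨h3, h⟩ := List.forall_mem_cons.1 h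
  obtain ⟨h4, h⟩ := List.forall_mem_cons.1 h
  obtain ⟨h5, h⟩ := List.forall_mem_cons.1 h
  obtain ⟨h6, h⟩ := List.forall_mem_cons.1 h
  obtain ⟨h7, h⟩ := List.forall_mem_cons.1 h
  obtain ⟨h8, h⟩ := List.forall_mem_cons.1 h
  obtain ⟨h9, h⟩ := List.forall_mem_cons.1 h
  exact ⟨mul_inv_eq_one.1 (by simpa only [mul_assoc, mul_inv_rev, inv_inv, inv_one, mul_one, one_mul] using (show n * (n * 1) = 1 from h0)),
    mul_inv_eq_one.1 (by simpa only [mul_assoc, mul_inv_rev, inv_inv, inv_one, mul_one, one_mul] using (show d * (d * (d * 1)) = 1 from h1)),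
    mul_inv_eq_one.1 (by simpa only [mul_assoc, mul_inv_rev, inv_inv, inv_one, mul_one, one_mul] using (show e * (e * (e * 1)) = 1 from h2)),
    mul_inv_eq_one.1 (by simpa only [mul_assoc, mul_inv_rev, inv_inv, inv_one, mul_one, one_mul] using (show d * (e * (d⁻¹ * (e⁻¹ * 1))) = 1 from h3)),
    mul_inv_eq_one.1 (by simpa only [mul_assoc, mul_inv_rev, inv_inv, inv_one, mul_one, one_mul] using (show n * (d * (n⁻¹ * (d⁻¹ * 1))) = 1 from h4)),
    mul_inv_eq_one.1 (by simpa only [mul_assoc, mul_inv_rev, inv_inv, inv_one, mul_one, one_mul] using (show n * (e * (n * (e * 1))) = 1 from h5)),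
    mul_inv_eq_one.1 (by simpa only [mul_assoc, mul_inv_rev, inv_inv, inv_one, mul_one, one_mul] using (show c * (c * 1) = 1 from h6)),
    mul_inv_eq_one.1 (by simpa only [mul_assoc, mul_inv_rev, inv_inv, inv_one, mul_one, one_mul] using (show c * (n * (c⁻¹ * (n⁻¹ * 1))) = 1 from h7)),
    mul_inv_eq_one.1 (by simpa only [mul_assoc, mul_inv_rev, inv_inv, inv_one, mul_one, one_mul] using (show c * (d * (c * (d * 1))) = 1 from h8)),
    mul_inv_eq_one.1 (by simpa only [mul_assoc, mul_inv_rev, inv_inv, inv_one, mul_one, one_mul] using (show c * (e * (c⁻¹ * (e⁻¹ * 1))) = 1 from h9))⟩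

theorem rel : Rel n d e c := by decide +kernel

theorem model {G : Type*} [Group G] {n' d' e' c' : G} (h : Rel n' d' e' c') :
    ∃ φ : E →* G, φ n = n' ∧ φ d = d' ∧ φ e = e' ∧ φ c = c' := by
  obtain ⟨pt, h0, -, hT⟩ := Y36E.enum (lt [n', d', e', c']) (1 : G)
    (lt_icol _ _ (k := 4) rfl (by decide +kernel)) (lt_ge le_rfl) h.sat
    (fun _ h => absurd h List.not_mem_nil)
  obtain ⟨φ, hφ⟩ := exists_hom tb (l := [n', d', e', c']) rfl h0 hT hom_chk
  exact ⟨φ, by simpa only [List.cons.injEq, and_true] using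
    (show [φ n, φ d, φ e, φ c] = [n', d', e', c'] from hφ)⟩

end H31.Y36
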