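import Cfsg.Agent.Lib.X32.U42

/-! The weakly closed case: the five conjugates in an elementary abelian group of order 16
(helper31) -/

set_option autoImplicit false
set_option maxRecDepth 100000

namespace H31.X32
open H70.TM H95 Subgroup SD Cfsg H70.Q32 W72

variable {G : Type*} [Group G]

theorem R.cjn {φ : EP →* G} {n : G} (h : R φ n (⟨1, s⟩ : SD EP WP)) {k l m : EP}
    (e : s • k * l * k⁻¹ = m) : φ k * (n * φ l) * (φ k)⁻¹ = n * φ m := by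
  have := h.mul_eq (s • k)
  rw [cj_inr, smul_smul, show s * s = 1 by decide +kernel, one_smul] at this
  rw [← mul_assoc, ← this, ← e, map_mul, map_mul, map_inv]; group

/-- two frames at commuting conjugates, aligned -/
structure Al (φ ψ : EP →* G) : Prop where
  fr : Fr WP φ zP
  sim : Sim WP φ ψ
  r1 : R φ (ψ zP) (⟨1, s⟩ : SD EP WP)
  r2 : R ψ (φ zP) (⟨1, s⟩ : SD EP WP)
  e1 : ψ (a * c) = φ (a * c)
  e2 : ψ (b * d) = φ (b * d)

/-- the five points -/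
noncomputable def pt (φ : EP →* G) (n : G) : Fin 5 → G := ![φ zP, n * φ 1, n * φ (zP * (a * c)),
  n * φ (zP * (b * d)), n * φ (zP * (a * c) * (b * d))]

/-- `g` permutes the points as `σ` -/
def Pm (P : Fin 5 → G) (g : G) (σ : Fin 5 → Fin 5) : Prop := ∀ i, g * P i * g⁻¹ = P (σ i)

theorem Pm.mul {P : Fin 5 → G} {g h : G} {σ τ : Fin 5 → Fin 5} (p : Pm P g σ) (q : Pm P h τ) :
    Pm P (g * h) (σ ∘ τ) := fun i => by rw [Function.comp, ← p, ← q]; group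

theorem Pm.congr {P : Fin 5 → G} {g : G} {σ τ : Fin 5 → Fin 5} (p : Pm P g σ) (e : ∀ i, σ i = τ i) :
    Pm P g τ := fun i => e i ▸ p i

theorem Pm.re {P P' : Fin 5 → G} {g : G} {σ τ : Fin 5 → Fin 5} (p : Pm P' g σ)
    (e : ∀ i, P' i = P (τ i)) (e' : ∀ i, τ (τ i) = i) : Pm P g (τ ∘ σ ∘ τ) := fun i => by
  have := p (τ i)
  rwa [e, e, e'] at this

namespace Fr
variable {φ ψ : EP →* G} (F : Fr WP φ zP) {n : G}
include F

theorem pm_u (h : R φ n (⟨1, s⟩ : SD EP WP)) : Pm (pt φ n) (φ (b * c * d)) ![0, 2, 1, 4, 3] := by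
  intro i
  fin_cases i
  exacts [mul_inv_eq_iff_eq_mul.2 (F.cz _), h.cjn (by decide +kernel), h.cjn (by decide +kernel),
    h.cjn (by decide +kernel), h.cjn (by decide +kernel)]

theorem pm_v (h : R φ n (⟨1, s⟩ : SD EP WP)) : Pm (pt φ n) (φ (a * b * c)) ![0, 3, 4, 1, 2] := by
  intro i
  fin_cases i
  exacts [mul_inv_eq_iff_eq_mul.2 (F.cz _), h.cjn (by decide +kernel), h.cjn (by decide +kernel),
    h.cjn (by decide +kernel), h.cjn (by decide +kernel)]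

theorem lf (S : Sim WP φ ψ) (h : R φ (ψ zP) (⟨1, s⟩ : SD EP WP)) (h9 : x * y ∈ X WP φ) :
    φ (a * c) ∈ ψ.range ∧ φ (b * d) ∈ ψ.range := by
  obtain ⟨_, h0⟩ := h9
  obtain ⟨D, hD, D3⟩ := F.ex3 h0 (by decide +kernel)
  have F' := F.sim S
  obtain ⟨δ, hδ⟩ := F'.exR (mul_inv_eq_iff_eq_mul.1 (F.cj3 h hD hD D3 D3 (by decide +kernel))).symm
  obtain ⟨μ, hμ⟩ := F'.exR (h.comm (u := a * c) (by decide +kernel)).symm
  have e1 := hD.eq (u := a * c) (v := b * d) (by decide +kernel)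
  have e2 := hD.eq (u := b * d) (v := a * c * (b * d)) (by decide +kernel)
  have h2 := hδ.conj hμ
  rw [e1] at h2
  have h3 := hδ.conj h2
  rw [e2, map_mul] at h3
  have := (by decide +kernel : ∀ k : WP, k * k * k = 1 → ∀ f, f * f = 1 →
    k * (k * f * k⁻¹) * k⁻¹ = f * (k * f * k⁻¹) → f = 1) δ.r (F'.r_one ((hδ.mul hδ).mul hδ) D3) μ.r
    (F'.r_sq hμ (by rw [← map_mul, show a * c * (a * c) = 1 by decide +kernel, map_one]))
    (F'.r_eq h3 (hμ.mul h2))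
  exact ⟨(F'.memQ hμ).2 this, (F'.memQ h2).2 (by rw [mul_r, mul_r, this, inv_r, mul_one, mul_inv_cancel])⟩

theorem notQ (wc : WC φ zP) (S : Sim WP φ ψ) (h : R φ (ψ zP) (⟨1, s⟩ : SD EP WP)) :
    φ zP ∉ ψ.range := fun e =>
  absurd ((F.memQ h).1 ⟨_, F.wc_sim S wc _ (F.sim_cj S).symm e⟩) (by decide +kernel)

theorem lf_wc (wc : WC φ zP) (S : Sim WP φ ψ) (h : R φ (ψ zP) (⟨1, s⟩ : SD EP WP)) :
    φ (a * c) ∈ ψ.range ∧ φ (b * d) ∈ ψ.range := by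
  by_cases h9 : x ∈ X WP φ ∧ y ∈ X WP φ
  · exact F.lf S h (mul_mem h9.1 h9.2)
  have F' := F.sim S
  obtain ⟨ζ, hζ⟩ := F'.exR (F.cen h).symm
  have key : ∀ f k : EP, s • f = f ∧ s • k * 1 * k⁻¹ = f * zP ∧ f ≠ zP → φ f ∈ ψ.range :=
    fun f k ⟨e1, e2, e3⟩ => by
    obtain ⟨μ, hμ⟩ := F'.exR (h.comm (u := f) ((cj_inr _ _).trans e1)).symm
    by_contra hc
    refine h9 (e9_sim S.symm (F'.e9_of_four hμ.memX hζ.memX (F'.r_sq hζ F.sq)
      (F'.r_comm hμ hζ (F.cz f)) (fun e => hc ((F'.memQ hμ).2 e))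
      (fun e => F.notQ wc S h ((F'.memQ hζ).2 e)) fun e => e3 ?_))
    have m := (F'.memQ (hμ.mul hζ)).2 (by rw [mul_r, e, F'.r_sq hζ F.sq])
    have e4 := h.cjn e2
    rw [map_one, mul_one, map_mul] at e4
    have := F.wc_sim S wc _ ⟨_, e4⟩ (mul_mem ⟨_, rfl⟩ m)
    rw [mul_eq_left, ← map_mul, ← map_one φ, F.inj.eq_iff, ← F.zz] at this
    exact mul_right_cancel this
  exact ⟨key _ a (by decide +kernel), key _ b (by decide +kernel)⟩

theorem exists_al (wc : WC φ zP) (hn : Cj (φ zP) n) (h : R φ n (⟨1, s⟩ : SD EP WP)) :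
    ∃ ψ, ψ zP = n ∧ Al φ ψ := by
  obtain ⟨g, rfl⟩ := hn
  obtain ⟨γ, h1⟩ := (F.cf g).types (F.sim_cj (sim_cf g φ)).symm (F.cen h).symm
    (F.notQ wc (sim_cf g φ) h)
  have S := (sim_cf g φ).trans (sim_tw _ γ)
  have e0 : X32.tw (X32.cf g φ) γ zP = g * φ zP * g⁻¹ := Fr.tw_z γ
  generalize X32.tw (X32.cf g φ) γ = ψ at h1 S e0
  rw [← e0] at h ⊢
  have F' := F.sim S
  obtain ⟨⟨u, e1⟩, v, e2⟩ := F.lf_wc wc S h
  have nz : ∀ f : EP, f ≠ 1 → ¬ Cj (φ zP) (φ zP * φ f) := fun f f1 e => by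
    have := wc _ e ⟨zP * f, map_mul _ _ _⟩
    rw [mul_eq_left, ← map_one φ] at this
    exact f1 (F.inj this)
  rcases h1 with h1 | h1
  swap
  · refine absurd (F'.tc_cj' tcP h1 F.sq ⟨u, by rw [e1, ← F.cz, mul_inv_cancel_right]⟩ ?_)
      (nz (a * c) (by decide +kernel))
    rw [← map_mul, ← map_mul, show zP * (a * c) * (zP * (a * c)) = 1 by decide +kernel, map_one]
  have key : ∀ u f : EP, f ≠ 1 → ψ u = φ f → u ∈ [a * c, b * d, a * c * (b * d)] := fun u f f1 e => by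
    rcases (by decide +kernel : ∀ u : EP, cj (⟨1, s⟩ : SD EP WP) u = u → u = zP ∨
      (∃ k, s • k * 1 * k⁻¹ = u) ∨ u ∈ [a * c, b * d, a * c * (b * d)]) u
      (F'.cj_fix h1 (by rw [e, F.cz])) with rfl | ⟨k, e3⟩ | e3
    · exact absurd ((F.memQ h).1 ⟨_, e.symm⟩) (by decide +kernel)
    · have := h1.cjn e3
      rw [map_one, mul_one, e] at this
      exact absurd ⟨_, this⟩ (nz f f1)
    · exact e3
  obtain ⟨k, e3, e4, e5⟩ := (by decide +kernel : ∀ u ∈ [a * c, b * d, a * c * (b * d)],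
    ∀ v ∈ [a * c, b * d, a * c * (b * d)], u ≠ v → ∃ k : WP,
      (⟨1, k⟩ : SD EP WP)⁻¹ * ⟨1, s⟩ * ⟨1, k⟩ = ⟨1, s⟩ ∧ k • (a * c) = u ∧ k • (b * d) = v) u
    (key u _ (by decide +kernel) e1) v (key v _ (by decide +kernel) e2) fun e => absurd
      (F.inj (e1.symm.trans (e ▸ e2))) (by decide +kernel)
  exact ⟨X32.tw ψ (⟨1, k⟩ : SD EP WP), Fr.tw_z _, F, S.trans (sim_tw _ _), by rwa [Fr.tw_z],
    (h1.tw _).of_eq e3, by rw [tw_apply, cj_inr, e4, e1], by rw [tw_apply, cj_inr, e5, e2]⟩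

theorem five (wc : WC φ zP) (hn : Cj (φ zP) n) (h : R φ n (⟨1, s⟩ : SD EP WP)) :
    (∃ g, Pm (pt φ n) g ![1, 0, 3, 2, 4]) ∧ (∃ g, Pm (pt φ n) g ![0, 1, 3, 4, 2]) ∧
      ¬ Cj (φ zP) (φ zP * n) := by
  obtain ⟨ψ, rfl, A⟩ := F.exists_al wc hn h
  have F' := F.sim A.sim
  have e : ∀ i, pt ψ (φ zP) i = pt φ (ψ zP) (![1, 0, 2, 3, 4] i) := fun i => by
    have := F.cen h
    have e1 := A.e1
    have e2 := A.e2
    have k : ∀ f g : EP, ψ f = φ g → φ zP * ψ (zP * f) = ψ zP * φ (zP * g) := fun f g e => by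
      rw [map_mul, map_mul, e, ← mul_assoc, ← this, mul_assoc]
    fin_cases i
    exacts [by simp [pt], by simp [pt], k _ _ e1, k _ _ e2, by
      have := k (a * c * (b * d)) (a * c * (b * d)) (by rw [map_mul, e1, e2, ← map_mul])
      rwa [← mul_assoc zP] at this]
  have u := F.pm_u h
  have v := F.pm_v h
  have U := (F'.pm_u A.r2).re e (by decide)
  have V := (F'.pm_v A.r2).re e (by decide)
  refine ⟨⟨_, (u.mul (V.mul (u.mul (V.mul u)))).congr (by decide)⟩,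
    ⟨_, (u.mul (U.mul (V.mul (v.mul U)))).congr (by decide)⟩, fun k => ?_⟩
  have e1 : _ * φ zP * _ = ψ zP * φ (zP * (a * c)) := U 0
  have e2 : _ * (ψ zP * φ 1) * _ = ψ zP * φ 1 := U 1
  rw [map_one, mul_one] at e2
  have := k.cj (ψ (b * c * d))
  rw [← conj_mul, e1, e2, h.comm (by decide +kernel), mul_assoc, F'.sq, mul_one] at this
  exact absurd (F.inj (wc _ this ⟨_, rfl⟩)) (by decide +kernel)

theorem e9_wc (wc : WC φ zP) (hn : Cj (φ zP) n) (h : R φ n (⟨1, s⟩ : SD EP WP)) :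
    x ∈ X WP φ ∧ y ∈ X WP φ := by
  obtain ⟨g, p⟩ := (F.five wc hn h).2.1
  have e0 : g * φ zP * g⁻¹ = φ zP := p 0
  have e1 : g * (n * φ 1) * g⁻¹ = n * φ 1 := p 1
  have e2 : g * (n * φ (zP * (a * c))) * g⁻¹ = n * φ (zP * (b * d)) := p 2
  rw [map_one, mul_one] at e1
  rw [← conj_mul, e1, mul_right_inj] at e2
  obtain ⟨ν, k⟩ := F.exR (mul_inv_eq_iff_eq_mul.1 e0)
  refine (F.xp h.memX (by decide +kernel) (by decide +kernel)).resolve_right fun ⟨e, _, e3, e4, e5, e6⟩ => ?_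
  refine (by decide +kernel : ∀ r ∈ [1, s], ∀ l : EP,
    cj (⟨l, r⟩ : SD EP WP) (zP * (a * c)) ≠ zP * (b * d)) ν.r ?_ ν.l (F.cj_of k e2)
  exact (by decide +kernel : ∀ e : WP, e * e * e = 1 → e ≠ 1 → s * e * s = e⁻¹ →
    ∀ k ∈ [1, e, e⁻¹, s, s * e, s * e⁻¹], k * s = s * k → k ∈ [1, s]) e e3 e4 e5 _ (e6 _ k.memX)
    (F.r_comm k h (mul_inv_eq_iff_eq_mul.1 e1))

end Fr

theorem eqns_wc1 : True := by
  have := @pt.eq_1.{0}
  have := @Pm.eq_1.{0}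
  trivial

end H31.X32
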