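import Cfsg.Agent.Lib.X32.WC1

/-! The normalizer of the elementary abelian group of order 16; the model of order 1152
(helper31) -/

set_option autoImplicit false
set_option maxRecDepth 100000

namespace H31.X32
open H54 H27.W Subgroup SD
open H63.P43 hiding Cj p WS

variable {G : Type*} [Group G] {y : ℕ → G} {w : G}

/-- a self-centralizing `2⁴` with the generators of its normalizer in `C(t)` -/
structure AS (y : ℕ → G) : Prop where
  ea : EA y
  kA : ∀ {g}, Act y g (fun k => k) → ∃ k, k < 16 ∧ g = el y k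
  d3 : y 6 * y 6 * y 6 = 1

/-- the element `w` -/
structure WS (y : ℕ → G) (w : G) : Prop where
  act : Act y w (lin 18450)
  sq : w * w = 1
  inv : w * y 6 * w⁻¹ = (y 6)⁻¹

theorem WS.congr (h : WS y w) {y' : ℕ → G} (e : ∀ i, i < 4 → y i = y' i) (e6 : y 6 = y' 6) : WS y' w := by
  have k : ∀ k < 16, el y k = el y' k := fun k hk =>
    evW_congr e ((by decide +kernel : ∀ k < 16, ∀ l ∈ nthW W16 k, l < 2 * 4) k hk)
  exact ⟨fun l hl => ⟨(h.act l hl).1, by rw [← k l hl, ← k _ (h.act l hl).1, (h.act l hl).2]⟩, h.sq,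
    e6 ▸ h.inv⟩

theorem WS.winv (h : WS y w) : w⁻¹ = w := inv_eq_of_mul_eq_one_right h.sq

theorem WS.wt (h : WS y w) : w * y 0 * w = y 1 := by
  have := (h.act 1 (by omega)).2
  rwa [el1, show lin 18450 1 = 2 by decide +kernel, el2, h.winv] at this

theorem WS.wa (h : WS y w) : w * y 2 * w = y 3 := by
  have := (h.act 4 (by omega)).2
  rwa [el4, show lin 18450 4 = 8 by decide +kernel, el8, h.winv] at this

namespace AS
variable (h : AS y)
include h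

theorem al {l : ℕ} (hl : l < 16) : Act y (el y l) fun k => k := fun k hk =>
  ⟨hk, by rw [h.ea.comm hl hk, mul_inv_cancel_right]⟩

theorem ad : Act y (y 6) (lin (cd 0 12)) := xl_even y 6 ▸ h.ea.act 12 (by omega)

theorem five (a : WS y w) {u : List ℕ} (e : okW u = true ∧ (∀ k < 16, apW 18450 u (apW 18450 u
    (apW 18450 u (apW 18450 u (apW 18450 u k)))) = k) ∧ ∀ k < 16, apW 18450 u k = k → k = 0) :
    evW (upd y 8 w) u ^ 5 = 1 := by
  have a := h.ea.word a.act e.1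
  generalize evW (upd y 8 w) u = g at a
  obtain ⟨k, hk, e1⟩ := h.kA ((a.mul (a.mul (a.mul (a.mul a)))).congr e.2.1)
  have := e.2.2 k hk (h.ea.inj (a k hk).1 hk (by rw [← (a k hk).2, ← e1]; group))
  rw [this, el0] at e1
  rw [← e1]; simp only [pow_succ, pow_zero, one_mul, mul_assoc]

theorem five' (a : WS y w) : (w * y 4) ^ 5 = 1 ∧ (w * y 5) ^ 5 = 1 :=
  ⟨by simpa [xl, upd] using h.five a (u := [16, 8]) (by decide +kernel),
    by simpa [xl, upd] using h.five a (u := [16, 10]) (by decide +kernel)⟩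

theorem fix (a : Act y w (lin 18450)) {m : ℕ} (hm : m < 16) (e1 : w * el y m * w⁻¹ = el y m)
    (e2 : el y m * y 6 * (el y m)⁻¹ = y 6) : el y m = 1 ∨ el y m = y 0 * y 1 := by
  rcases (by decide +kernel : ∀ m < 16, lin 18450 m = m → lin (cd 0 12) m = m → m = 0 ∨ m = 3)
    m hm (h.ea.inj (a m hm).1 hm ((a m hm).2.symm.trans e1)) (h.ea.inj (h.ad m hm).1 hm (by
      rw [← (h.ad m hm).2, mul_inv_eq_iff_eq_mul, ← mul_inv_eq_iff_eq_mul.1 e2])) with rfl | rfl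
  exacts [.inl rfl, .inr el3]

theorem exists_w {g : G} (a : Act y g (lin 18450)) : ∃ w, WS y w := by
  have A := h.ea
  have ad' : Act y (y 6)⁻¹ (lin (cd 0 13)) := xl_odd y 6 ▸ A.act 13 (by omega)
  obtain ⟨k, hk, e2⟩ := h.kA ((((a.mul h.ad).mul (a.inv (f' := lin 18450) (by decide +kernel))).mul
    h.ad).congr (by decide +kernel))
  have e3 : g * y 6 * g⁻¹ = el y k * (y 6)⁻¹ := eq_mul_inv_of_mul_eq e2
  have b1 := ad' k hk
  have b2 := ad' _ b1.1
  have e4 : el y k * el y (lin (cd 0 13) k) * el y (lin (cd 0 13) (lin (cd 0 13) k)) = 1 := by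
    have : g * y 6 * g⁻¹ * (g * y 6 * g⁻¹) * (g * y 6 * g⁻¹) = 1 := by
      rw [conj_mul, conj_mul, h.d3]; group
    rw [← b2.2, ← b1.2, ← mul_one (1 : G)]
    nth_rewrite 1 [← this]
    rw [e3, ← h.d3]
    group
  rw [A.mul _ hk _ b1.1, A.mul _ (xor_lt hk b1.1) _ b2.1] at e4
  obtain ⟨l, hl, rfl⟩ := (by decide +kernel : ∀ k < 16, k ^^^ lin (cd 0 13) k ^^^
    lin (cd 0 13) (lin (cd 0 13) k) = 0 → ∃ l < 16, l ^^^ lin (cd 0 13) l = k) k hk
    (A.ne _ (xor_lt (xor_lt hk b1.1) b2.1) e4)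
  have a2 : Act y (el y l * g) (lin 18450) := (h.al hl).mul a
  have i2 : el y l * g * y 6 * (el y l * g)⁻¹ = (y 6)⁻¹ := by
    calc _ = el y l * (g * y 6 * g⁻¹) * (el y l)⁻¹ := by group
      _ = el y l * el y l * (y 6)⁻¹ * (el y l * (el y l)⁻¹) := by
        rw [e3, ← A.mul _ hl _ (ad' l hl).1, ← (ad' l hl).2]; group
      _ = _ := by rw [A.sq hl]; group
  generalize el y l * g = w at a2 i2
  obtain ⟨m, hm, e9⟩ := h.kA ((a2.mul a2).congr (by decide +kernel))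
  have td : y 6 * y 0 * (y 6)⁻¹ = y 0 := by
    have := (h.ad 1 (by omega)).2
    rwa [show lin (cd 0 12) 1 = 1 by decide +kernel, el1] at this
  rcases h.fix a2 hm (by rw [← e9]; group) (by
    rw [← e9]
    calc _ = w * (w * y 6 * w⁻¹) * w⁻¹ := by group
      _ = (w * y 6 * w⁻¹)⁻¹ := by nth_rewrite 1 [i2]; group
      _ = _ := by rw [i2, inv_inv]) with e | e
  · exact ⟨w, a2, e9.trans e, i2⟩
  · refine ⟨w * el y 1, a2.mul (h.al (by omega)), ?_, ?_⟩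
    · calc _ = w * el y 1 * w⁻¹ * (w * w) * el y 1 := by group
        _ = 1 := by rw [(a2 1 (by omega)).2, e9, e, ← el3, A.mul _ (by decide +kernel) _ (by omega),
          A.mul _ (by decide +kernel) _ (by omega)]; rfl
    · rw [← i2, el1, mul_assoc w, ← mul_inv_eq_iff_eq_mul.1 td]; group

theorem comm_c (a : WS y w) {c : G} (ac : Act y c (lin 18465)) (c2 : c * c = 1)
    (cd : c * y 6 * c⁻¹ = (y 6)⁻¹) : w * c * (w * c) = 1 ∨ w * c * (w * c) = y 0 * y 1 := by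
  obtain ⟨m, hm, e⟩ := h.kA (((a.act.mul ac).mul (a.act.mul ac)).congr (by decide +kernel))
  have e1 : w * c * y 6 * (w * c)⁻¹ = y 6 := by
    calc _ = w * (c * y 6 * c⁻¹) * w⁻¹ := by group
      _ = _ := by rw [cd, ← conj_inv, a.inv, inv_inv]
  rw [e]
  refine h.fix a.act hm ?_ ?_
  · nth_rewrite 2 [← inv_eq_of_mul_eq_one_right (h.ea.sq hm)]
    rw [← e, mul_inv_rev, mul_inv_rev, inv_eq_of_mul_eq_one_right c2, a.winv, ← mul_assoc, ← mul_assoc,
      ← mul_assoc, a.sq]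
    group
  · rw [← e]
    calc _ = w * c * (w * c * y 6 * (w * c)⁻¹) * (w * c)⁻¹ := by group
      _ = _ := by rw [e1, e1]

end AS

theorem map_el {M : Type*} [Group M] (Φ : M →* G) (τ : ℕ → M) (k : ℕ) :
    el (fun i => Φ (τ i)) k = Φ (el τ k) := (map_evW Φ τ _).symm

theorem act_map {M : Type*} [Group M] (Φ : M →* G) {τ : ℕ → M} {μ : M} {f : ℕ → ℕ}
    (h : ∀ k < 16, f k < 16 ∧ μ * el τ k * μ⁻¹ = el τ (f k)) : Act (fun i => Φ (τ i)) (Φ μ) f :=
  fun k hk => ⟨(h k hk).1, by rw [map_el, map_el, ← (h k hk).2, map_mul, map_mul, map_inv]⟩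

theorem as_of_mod {M : Type*} [Group M] {Φ : M →* G} {τ : ℕ → M} (h : H70.TM.Mod Φ (τ 0))
    (h1 : ∀ k < 16, ∀ l < 16, el τ k * el τ l = el τ (k ^^^ l)) (h2 : ∀ k < 16, el τ k = 1 → k = 0)
    (h3 : ∀ l < 14, ∀ k < 16, lin (cd 0 l) k < 16 ∧
      xl τ l * el τ k * (xl τ l)⁻¹ = el τ (lin (cd 0 l) k))
    (h4 : ∀ μ, μ * τ 1 = τ 1 * μ → μ * τ 2 = τ 2 * μ → μ * τ 3 = τ 3 * μ → ∃ k < 16, μ = el τ k)
    (h5 : τ 6 * τ 6 * τ 6 = 1) : AS fun i => Φ (τ i) := by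
  refine ⟨⟨fun k hk l hl => by rw [map_el, map_el, map_el, ← map_mul, h1 k hk l hl], fun k hk e =>
    h2 k hk (h.inj (by rw [← map_el, e, map_one])), fun l hl => ?_⟩, fun {g} a => ?_,
    by rw [← map_mul, ← map_mul, h5, map_one]⟩
  · have := act_map Φ (h3 l hl)
    rwa [show Φ (xl τ l) = xl (fun i => Φ (τ i)) l by unfold xl; split_ifs <;> simp] at this
  · have e : ∀ k, k < 16 → g * el _ k = el _ k * g := fun k hk => mul_inv_eq_iff_eq_mul.1 (a k hk).2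
    have e1 := e 1 (by omega)
    have e2 := e 2 (by omega)
    have e4 := e 4 (by omega)
    have e8 := e 8 (by omega)
    rw [el1] at e1; rw [el2] at e2; rw [el4] at e4; rw [el8] at e8
    obtain ⟨μ, rfl⟩ := h.ran g e1
    obtain ⟨k, hk, rfl⟩ := h4 μ (h.comm_iff.1 e2) (h.comm_iff.1 e4) (h.comm_iff.1 e8)
    exact ⟨k, hk, (map_el _ _ _).symm⟩

/-- the model of the centralizer -/
abbrev M36 : Type := SD EP Y36.E

/-- an element of the model -/
noncomputable def mk36 (l r : ℕ) : M36 := ⟨H70.TM.El.of _ l, H70.TM.El.of _ r⟩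

/-- the generators `t n a b u v d r c` -/
noncomputable def tM : ℕ → M36 := gv [mk36 5 0, mk36 0 1, mk36 26 1, mk36 29 1, mk36 25 0, mk36 22 0,
  mk36 0 2, mk36 0 11, mk36 0 4]

/-- the twisted generators -/
noncomputable def tN : ℕ → M36 := gv [mk36 5 0, mk36 5 4, mk36 28 4, mk36 27 4, mk36 20 0, mk36 18 0,
  mk36 0 12, mk36 5 14]

theorem as_tM {Φ : M36 →* G} (h : H70.TM.Mod Φ (inl zP)) : AS fun i => Φ (tM i) :=
  as_of_mod h (by decide +kernel) (by decide +kernel) (by decide +kernel) (by decide +kernel)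
    (by decide +kernel)

theorem as_tN {Φ : M36 →* G} (h : H70.TM.Mod Φ (inl zP)) : AS fun i => Φ (tN i) :=
  as_of_mod h (by decide +kernel) (by decide +kernel) (by decide +kernel) (by decide +kernel)
    (by decide +kernel)

theorem tM_top : gen tM 9 = ⊤ := by
  have m : ∀ {ν} (w : List ℕ), (∀ l ∈ w, l < 2 * 9) ∧ evW tM w = ν → ν ∈ gen tM 9 :=
    fun w h => h.2 ▸ evW_mem_gen tM h.1
  exact SD.top_of (H70.Q32.eq_top (m [4, 6, 8] (by decide +kernel)) (m [6, 10, 4] (by decide +kernel))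
    (m [2, 6, 8] (by decide +kernel)) (m [2, 10, 4] (by decide +kernel)))
    (Y36.eq_top (m [2] (by decide +kernel)) (m [12] (by decide +kernel)) (m [2, 14] (by decide +kernel))
      (m [16] (by decide +kernel)))

/-- the five points in the model -/
noncomputable def P5 : List M36 := [tM 0, tM 1, tM 2, tM 3, tM 0 * tM 1 * (tM 2 * tM 3)]

theorem cls1 : ∀ η : M36, η * η = 1 → η.r * Y36.d = Y36.d * η.r → η = 1 ∨ η = tM 0 ∨
    ∃ k ∈ [mk36 0 0, mk36 1 0, mk36 1 2, mk36 6 2, mk36 0 3, mk36 1 3, mk36 0 6, mk36 1 6, mk36 1 9,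
      mk36 6 9, mk36 1 16, mk36 6 16, mk36 0 8, mk36 1 8, mk36 0 20, mk36 1 20, mk36 0 27, mk36 1 27],
      k * η * k⁻¹ = tM 1 ∨ k * η * k⁻¹ ∈ [tM 0 * tM 1, tM 2 * tM 3] := by decide +kernel

theorem cls2 : ∀ ρ ∈ [tM 0 * tM 1, tM 2 * tM 3], ∀ η : M36, η * η = 1 → η * ρ = ρ * η → η = 1 ∨ η ∈ P5 ∨
    ∃ k ∈ [mk36 0 0, mk36 1 0, mk36 6 2, mk36 6 0, mk36 0 8, mk36 2 0, mk36 0 2, mk36 6 8, mk36 3 0,
      mk36 4 0, mk36 7 0, mk36 8 0, mk36 1 2, mk36 7 2, mk36 8 2, mk36 0 3, mk36 1 3, mk36 0 6, mk36 1 6,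
      mk36 1 8, mk36 7 8, mk36 8 8],
      k * η * k⁻¹ ∈ [tM 2 * tM 3, tM 0 * tM 1, tM 8, tM 8 * tM 0, tM 8 * tM 1] := by decide +kernel

theorem cls3 : ∀ ρ ∈ [tM 0 * tM 1, tM 2 * tM 3], ∀ τ ∈ P5, ∀ ν ∈ P5, τ ≠ ν →
    ρ * τ ∈ P5 ∨ ρ * ν ∈ P5 ∨ ρ * τ * ν ∈ P5 := by decide +kernel

theorem cls4 : ∀ τ ∈ P5, τ = tM 0 ∨ ∃ k ∈ [1, tM 4, tM 5, tM 4 * tM 5], k * tM 1 * k⁻¹ = τ := by
  decide +kernel

theorem eqns_wc2 : True := by
  have := @mk36.eq_1
  have := @tM.eq_1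
  have := @tN.eq_1
  have := @P5.eq_1
  trivial

end H31.X32
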