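import Cfsg.Agent.Lib.X32.WC2
import Cfsg.Agent.Lib.X32.END

/-! The weakly closed case with `C(z)/Q ≅ S₃ × S₃` (helper31) -/

set_option autoImplicit false
set_option maxRecDepth 100000

namespace H31.X32
open H70.TM H95 Subgroup SD Cfsg H54 H27.W
open H63.P43 (el lin EA el1 el2 el4 el8 apW act_one)

variable {G : Type*} [Group G]

theorem EA.of_pm {y : ℕ → G} (A : EA y) {P : Fin 5 → G} (e0 : y 0 = P 0) (e1 : y 1 = P 1) (e2 : y 2 = P 2)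
    (e3 : y 3 = P 3) {g : G} (p : Pm P g ![1, 0, 3, 2, 4]) : H63.P43.Act y g (lin 18450) := by
  refine A.lin_of (F := lin 18450) ?_
  simp only [List.forall_mem_cons]
  refine ⟨⟨by decide +kernel, ?_⟩, ⟨by decide +kernel, ?_⟩, ⟨by decide +kernel, ?_⟩,
    ⟨by decide +kernel, ?_⟩, fun _ h => absurd h List.not_mem_nil⟩
  · rw [show lin 18450 1 = 2 by decide +kernel, el1, el2, e0, e1]; exact p 0
  · rw [show lin 18450 2 = 1 by decide +kernel, el1, el2, e0, e1]; exact p 1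
  · rw [show lin 18450 4 = 8 by decide +kernel, el4, el8, e2, e3]; exact p 2
  · rw [show lin 18450 8 = 4 by decide +kernel, el4, el8, e2, e3]; exact p 3

open W72 in
/-- the action of `c` -/
noncomputable def c0 : WP := s * t * s * t * s

/-- coordinates for the centralizer -/
structure Gd (φ : EP →* G) (Φ : M36 →* G) : Prop where
  mod : Mod Φ (inl zP)
  el : ∀ u, Φ (inl u) = φ u
  rc : R φ (Φ (tM 8)) (⟨1, c0⟩ : SD EP WP)

namespace Fr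
variable {φ : EP →* G} (F : Fr WP φ zP) {n : G}
include F
open W72

theorem exists_gd [Finite G] (hG : ∀ N : Subgroup G, N.index ≠ 2) (wc : WC φ zP) (hn : Cj (φ zP) n)
    (h : R φ n (⟨1, s⟩ : SD EP WP)) {d e : G} (hd : R φ d (⟨1, x * y⟩ : SD EP WP))
    (he : R φ e (⟨1, x * y⁻¹⟩ : SD EP WP)) (r : Y18.Rel n d e) {μ : G} (hμ : R φ μ (⟨1, c0⟩ : SD EP WP)) :
    ∃ Φ, Gd φ Φ ∧ Φ (tM 1) = n ∧ Φ (tM 6) = d ∧ Φ (tM 8) = μ := by
  have h9 := F.e9_wc wc hn h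
  have c1 : μ * n * μ⁻¹ = n := (F.eq h ((rinr hμ h).of_eq (by decide +kernel))).resolve_right fun e =>
    (F.five wc hn h).2.2 (by rw [← F.cen h, ← e]; exact hn.cj μ)
  have c2 : μ * μ = 1 := (F.triv ((hμ.mul hμ).of_eq (by decide +kernel))).resolve_right fun e => by
    obtain ⟨ψ, rfl, A⟩ := F.exists_al wc hn h
    obtain ⟨κ, k⟩ := (F.sim A.sim).exR (mul_inv_eq_iff_eq_mul.1 c1)
    exact (by decide +kernel : ∀ k : WP, k * k ≠ s) κ.r ((F.sim A.sim).r_eq (k.mul k) (e ▸ A.r2))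
  have c3 := F.cj3 hμ hd (rinv hd) r.2.1 (inv3 r.2.1) (by decide +kernel)
  rw [inv_eq_of_mul_eq_one_right c2] at c3
  obtain ⟨θ, e1, e2, e3, e4⟩ := Y36.model (n' := n) (d' := d) (e' := e) (c' := μ) ⟨r.1, r.2.1, r.2.2.1,
    r.2.2.2.1, r.2.2.2.2.1, r.2.2.2.2.2, c2, mul_inv_eq_iff_eq_mul.1 c1, c3,
    mul_inv_eq_iff_eq_mul.1 (F.cj3 hμ he he r.2.2.1 r.2.2.1 (by decide +kernel))⟩
  have k : ∀ y u, θ y * φ u * (θ y)⁻¹ = φ (y • u) := fun y => (Y36.eq_top (K := actS φ θ)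
    (h.actS e1 (by decide +kernel)) (hd.actS e2 (by decide +kernel))
    (he.actS e3 (by decide +kernel)) (hμ.actS e4 (by decide +kernel))).ge (mem_top y)
  have e8 : lift φ θ k (tM 8) = μ := by
    rw [show tM 8 = inr Y36.c by decide +kernel, lift_inr, e4]
  refine ⟨lift φ θ k, ⟨F.mod _ (by decide +kernel) fun k hk =>
    (by decide +kernel : ∀ k ∈ OmP, ∃ y : Y36.E, ∀ u : EP, k • u = y • u) k (F.even hG h9 h.memX hk),
    lift_inl _, e8 ▸ hμ⟩, ?_, ?_, e8⟩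
  · rw [show tM 1 = inr Y36.n by decide +kernel, lift_inr, e1]
  · rw [show tM 6 = inr Y36.d by decide +kernel, lift_inr, e2]

end Fr

open H70.Q32 W72 in
theorem Gd.pts {φ : EP →* G} {Φ : M36 →* G} (D : Gd φ Φ) : Φ (tM 0) = pt φ (Φ (tM 1)) 0 ∧
    Φ (tM 1) = pt φ (Φ (tM 1)) 1 ∧ Φ (tM 2) = pt φ (Φ (tM 1)) 2 ∧ Φ (tM 3) = pt φ (Φ (tM 1)) 3 :=
  ⟨D.el _, by simp [pt], by
    rw [show tM 2 = tM 1 * inl (zP * (a * c)) by decide +kernel, map_mul, D.el]; rfl, by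
    rw [show tM 3 = tM 1 * inl (zP * (b * d)) by decide +kernel, map_mul, D.el]; rfl⟩

open H70.Q32 W72 in
theorem Gd.pts' {φ : EP →* G} {Φ : M36 →* G} (D : Gd φ Φ) :
    Φ (tN 0) = pt (tw φ (⟨1, t⟩ : SD EP WP)) (Φ (tN 1)) 0 ∧
    Φ (tN 1) = pt (tw φ (⟨1, t⟩ : SD EP WP)) (Φ (tN 1)) 1 ∧
    Φ (tN 2) = pt (tw φ (⟨1, t⟩ : SD EP WP)) (Φ (tN 1)) 2 ∧
    Φ (tN 3) = pt (tw φ (⟨1, t⟩ : SD EP WP)) (Φ (tN 1)) 3 :=
  ⟨(D.el _).trans (Fr.tw_z _).symm, by simp [pt], by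
    rw [show tN 2 = tN 1 * inl (cj (⟨1, t⟩ : SD EP WP) (zP * (a * c))) by decide +kernel, map_mul, D.el]
    rfl, by
    rw [show tN 3 = tN 1 * inl (cj (⟨1, t⟩ : SD EP WP) (zP * (b * d))) by decide +kernel, map_mul, D.el]
    rfl⟩

/-- the configuration with the element `w` -/
structure LS (φ : EP →* G) (Φ : M36 →* G) (w : G) : Prop extends Gd φ Φ where
  fr : Fr WP φ zP
  wc : WC φ zP
  cn : Cj (φ zP) (Φ (tM 1))
  rn : R φ (Φ (tM 1)) (⟨1, W72.s⟩ : SD EP WP)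
  ws : WS (fun i => Φ (tM i)) w
  cw : w * Φ (tM 8) * (w * Φ (tM 8)) = 1

theorem Fr.exists_ls [Finite G] {φ : EP →* G} (F : Fr WP φ zP) {n : G}
    (hG : ∀ N : Subgroup G, N.index ≠ 2) (wc : WC φ zP) (hn : Cj (φ zP) n)
    (h : R φ n (⟨1, W72.s⟩ : SD EP WP)) (hc : c0 ∈ X WP φ) : ∃ Φ w, LS φ Φ w := by
  obtain ⟨d, e, hd, he, r⟩ := F.exists_de (hn.sq F.sq) h (F.e9_wc wc hn h)
  obtain ⟨μ, hμ⟩ := hc
  obtain ⟨Φ, D, rfl, rfl, rfl⟩ := F.exists_gd hG wc hn h hd he r hμ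
  obtain ⟨g, p⟩ := (F.five wc hn h).1
  have A := as_tM D.mod
  obtain ⟨w, W⟩ := A.exists_w (EA.of_pm A.ea D.pts.1 D.pts.2.1 D.pts.2.2.1 D.pts.2.2.2 p)
  rcases A.comm_c W (act_map Φ (μ := tM 8) (by decide +kernel))
    (by rw [← map_mul, show tM 8 * tM 8 = 1 by decide +kernel, map_one])
    (by rw [← map_inv, ← map_inv, ← map_mul, ← map_mul]; exact congrArg Φ (by decide +kernel)) with k | k
  · exact ⟨Φ, w, D, F, wc, hn, h, W, k⟩
  obtain ⟨Ψ, D', e1, e6, e8⟩ := F.exists_gd hG wc hn h hd he r ((hμ.mul F.rz).of_eq (mul_one _))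
  have P := D.pts
  have P' := D'.pts
  rw [e1] at P'
  refine ⟨Ψ, w, D', F, wc, e1 ▸ hn, e1 ▸ h, W.congr (fun i hi => ?_) e6.symm, ?_⟩
  · interval_cases i
    exacts [P.1.trans P'.1.symm, e1.symm, P.2.2.1.trans P'.2.2.1.symm, P.2.2.2.trans P'.2.2.2.symm]
  · have e0 : φ zP = Φ (tM 0) := (D.el _).symm
    have e2 : Φ (tM 1) * Φ (tM 8) = Φ (tM 8) * Φ (tM 1) := D.mod.comm_iff.2 (by decide +kernel)
    rw [e8, e0]
    calc _ = w * Φ (tM 8) * w * (w⁻¹ * Φ (tM 0) * w * Φ (tM 8)) * Φ (tM 0) := by group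
      _ = w * Φ (tM 8) * (w * Φ (tM 8)) * Φ (tM 1) * Φ (tM 0) := by rw [W.winv, W.wt, e2]; group
      _ = 1 := by
        rw [k, ← map_mul, ← map_mul, ← map_mul, ← map_one Φ]; exact congrArg Φ (by decide +kernel)

namespace LS
variable {φ : EP →* G} {Φ : M36 →* G} {w : G} (L : LS φ Φ w)
include L
open W72

theorem e0 : Φ (tM 0) = φ zP := L.el _

theorem ntn : ¬ Cj (φ zP) (Φ (tM 0 * tM 1)) := by
  rw [map_mul, L.e0]; exact (L.fr.five L.wc L.cn L.rn).2.2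

theorem rtw : R (tw φ (⟨1, t⟩ : SD EP WP)) (Φ (tM 8)) (⟨1, s⟩ : SD EP WP) :=
  (L.rc.tw _).of_eq (by decide +kernel)

theorem wcw : w * Φ (tM 8) * w⁻¹ = Φ (tM 8) := by
  rw [L.ws.winv, ← mul_left_inj (Φ (tM 8)), mul_assoc, L.cw, ← map_mul, ← map_one Φ]
  exact congrArg Φ (by decide +kernel)

theorem nc : ¬ Cj (φ zP) (Φ (tM 8)) := fun ⟨g, e⟩ => by
  have F' := L.fr.tw (⟨1, t⟩ : SD EP WP)
  have h9 := Fr.e9_sim (sim_tw φ (⟨1, t⟩ : SD EP WP)) (L.fr.e9_wc L.wc L.cn L.rn)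
  have e' : cf g (tw φ (⟨1, t⟩ : SD EP WP)) zP = Φ (tM 8) := by rw [cf_apply, Fr.tw_z, e]
  have m := (F'.lf (sim_cf g _) (e' ▸ L.rtw) (mul_mem h9.1 h9.2)).1
  have l3 := (F'.cf g).l3
  have m2 := l3.pow_four (mul_mem m (conj_mem_of_normalizer
    (l3.norm w (e' ▸ mul_inv_eq_iff_eq_mul.1 L.wcw)) m))
  have A := (as_tM L.mod).ea
  have a := A.word L.ws.act (w := (List.replicate 4 [4, 6, 8, 10, 16, 4, 6, 8, 10, 16]).flatten)
    (by decide +kernel)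
  rw [evW_rep] at a
  rw [tw_apply, ← L.el, show inl (cj (⟨1, t⟩ : SD EP WP) (H70.Q32.a * H70.Q32.c)) =
    tM 2 * tM 3 * tM 4 * tM 5 by decide +kernel, L.ws.winv] at m2
  have e2 : evW (upd (fun i => Φ (tM i)) 8 w) [4, 6, 8, 10, 16, 4, 6, 8, 10, 16] ^ 4 = 1 := by
    simpa [xl, upd, mul_assoc] using m2
  rw [e2] at a
  exact absurd (A.uniq a act_one (k := 1) (by omega)) (by decide +kernel)

theorem five {τ : M36} (h : τ ∈ P5) : Cj (φ zP) (Φ τ) := by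
  rcases cls4 τ h with rfl | ⟨k, -, e⟩
  exacts [L.e0 ▸ Cj.refl _, L.cn.trans (Cj.map Φ ⟨k, e⟩)]

theorem cj1 : Cj (Φ (tM 8 * tM 0)) (Φ (tM 8 * tM 1)) :=
  ⟨w, by rw [map_mul, ← conj_mul, L.wcw, L.ws.winv, L.ws.wt, map_mul]⟩

theorem cj2 : Cj (Φ (tM 8 * tM 0)) (Φ (tM 8 * tM 0 * tM 1)) :=
  L.cj1.trans (Cj.map Φ ⟨mk36 6 0, by decide +kernel⟩)

theorem ct [Finite G] (hG : ∀ N : Subgroup G, N.index ≠ 2) : Cj (φ zP) (Φ (tM 8 * tM 0)) := by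
  by_contra h1
  have F := L.fr
  have h2 : ¬ Cj (φ zP) (Φ (tM 8 * tM 1)) := fun e => h1 (e.trans L.cj1.symm)
  have h3 : ¬ Cj (φ zP) (Φ (tM 8 * tM 0 * tM 1)) := fun e => h1 (e.trans L.cj2.symm)
  have h4 : ¬ Cj (φ zP) (Φ (tM 2 * tM 3)) := fun e => by
    rw [show tM 2 * tM 3 = inl (H70.Q32.a * H70.Q32.c * (H70.Q32.b * H70.Q32.d)) by decide +kernel,
      L.el] at e
    exact absurd (F.inj (L.wc _ e ⟨_, rfl⟩)) (by decide +kernel)
  have pts : ∀ ρ ∈ [tM 0 * tM 1, tM 2 * tM 3], ∀ g, Cj (φ zP) g → g * φ zP = φ zP * g →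
      g * Φ ρ = Φ ρ * g → ∃ τ ∈ P5, Φ τ = g := fun ρ hρ g c1 c2 c3 => by
    obtain ⟨τ, rfl⟩ := L.mod.ran g (by rwa [L.el])
    rcases cls2 ρ hρ τ (L.mod.inj (by rw [map_mul, c1.sq F.sq, map_one])) (L.mod.comm_iff.1 c3) with
      rfl | e | ⟨k, -, e⟩
    · exact absurd (map_one Φ) (c1.ne F.ne)
    · exact ⟨τ, e, rfl⟩
    · have := c1.trans (Cj.map Φ ⟨k, rfl⟩)
      simp only [List.mem_cons, List.not_mem_nil, or_false] at e
      rcases e with e | e | e | e | e <;> rw [e] at this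
      exacts [absurd this h4, absurd this L.ntn, absurd this L.nc, absurd this h1, absurd this h2]
  have core : ∀ ρ ∈ [tM 0 * tM 1, tM 2 * tM 3], ∀ g, g * Φ (tM 8 * tM 0) * g⁻¹ = Φ ρ →
      g * Φ (tM 0) * g⁻¹ * φ zP = φ zP * (g * Φ (tM 0) * g⁻¹) →
      g * Φ (tM 1) * g⁻¹ * φ zP = φ zP * (g * Φ (tM 1) * g⁻¹) → False := fun ρ hρ g e c1 c2 => by
    obtain ⟨τ, t1, t2⟩ := pts ρ hρ _ ((L.five (τ := tM 0) (by simp [P5])).cj g) c1
      (e ▸ cj_comm g (L.mod.comm_iff.2 (by decide +kernel)))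
    obtain ⟨ν, n1, n2⟩ := pts ρ hρ _ (L.cn.cj g) c2
      (e ▸ cj_comm g (L.mod.comm_iff.2 (by decide +kernel)))
    have back : ∀ {u : M36} {v : G}, Cj (φ zP) v → v = g * Φ u * g⁻¹ → Cj (φ zP) (Φ u) :=
      fun c e => c.trans (Cj.symm ⟨g, e.symm⟩)
    rcases cls3 ρ hρ τ t1 ν n1 (fun f => by
      rw [f, n2, mul_left_inj, mul_right_inj] at t2
      exact absurd (L.mod.inj t2) (by decide +kernel)) with f | f | f
    · exact L.nc (back (L.five f) (by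
        rw [map_mul, t2, ← e, conj_mul, ← map_mul, show tM 8 * tM 0 * tM 0 = tM 8 by decide +kernel]))
    · exact h3 (back (L.five f) (by rw [map_mul, n2, ← e, conj_mul, ← map_mul]))
    · exact h2 (back (L.five f) (by
        rw [map_mul, map_mul, t2, n2, ← e, conj_mul, conj_mul, ← map_mul, ← map_mul,
          show tM 8 * tM 0 * tM 0 = tM 8 by decide +kernel]))
  let N : Subgroup WP := closure {s, c0}
  have r : s * s = 1 ∧ c0 * c0 = 1 ∧ s * c0 = c0 * s := by decide +kernel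
  have hN : IsPGroup 2 (pre φ N) := F.isP_pre 1 fun x hx _ => by
    rcases (mem_closure_four r.1 r.2.1 r.2.2).1 hx with rfl | rfl | rfl | rfl <;> decide +kernel
  have y2 : Φ (tM 8 * tM 0) * Φ (tM 8 * tM 0) = 1 := by
    rw [← map_mul, ← map_one Φ]; exact congrArg Φ (by decide +kernel)
  obtain ⟨g, ⟨η, hη, e1⟩, e2⟩ := F.ext hG (K := ((𝐂₀(Y36.d)).comap pr).map Φ) (fun u v hu hv => by
      obtain ⟨μ, rfl⟩ := L.mod.ran u (by rwa [L.el])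
      obtain ⟨ν, rfl⟩ := L.mod.ran v (by rwa [L.el])
      rcases (by decide +kernel : ∀ k l : Y36.E, k * Y36.d = Y36.d * k ∨ l * Y36.d = Y36.d * l ∨
        k * l * Y36.d = Y36.d * (k * l)) μ.r ν.r with e | e | e
      exacts [.inl ⟨μ, mem_c.2 e, rfl⟩, .inr (.inl ⟨ν, mem_c.2 e, rfl⟩),
        .inr (.inr ⟨μ * ν, mem_c.2 e, map_mul _ _ _⟩)])
    y2 (T := pre φ N ⊓ 𝐂₀(Φ (tM 8 * tM 0))) hN.to_inf_left
    ⟨⟨_, by rw [map_mul, L.e0]; exact L.rc.mul F.rz, subset_closure (by simp)⟩,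
      mem_c.2 rfl⟩ fun r hr => mem_c.1 hr.2
  have c1 := e2 (Φ (tM 0)) ⟨⟨_, L.e0 ▸ F.rz, one_mem _⟩, mem_c.2 (L.mod.comm_iff.2 (by decide +kernel))⟩
  have c2 := e2 (Φ (tM 1)) ⟨⟨_, L.rn, subset_closure (by simp)⟩,
    mem_c.2 (L.mod.comm_iff.2 (by decide +kernel))⟩
  have c3 : Cj (Φ η) (Φ (tM 8 * tM 0)) := ⟨g, by rw [e1]; group⟩
  rcases cls1 η (L.mod.inj (by rw [map_mul, c3.symm.sq y2, map_one])) (mem_c.1 hη) with
    rfl | rfl | ⟨k, -, e | e⟩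
  · exact absurd (L.mod.inj (by simpa using c3.symm.choose_spec : Φ (tM 8 * tM 0) = Φ 1))
      (by decide +kernel)
  · exact h1 (L.e0 ▸ c3)
  · exact h1 (L.cn.trans ((Cj.map Φ ⟨k, e⟩).symm.trans c3))
  · have k0 : Φ k * φ zP = φ zP * Φ k := L.el zP ▸ L.mod.comm k
    have k1 : ∀ v, g⁻¹ * v * g * φ zP = φ zP * (g⁻¹ * v * g) →
        Φ k * g⁻¹ * v * (Φ k * g⁻¹)⁻¹ * φ zP = φ zP * (Φ k * g⁻¹ * v * (Φ k * g⁻¹)⁻¹) := fun v hv => by
      have := cj_comm (Φ k) hv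
      rw [cj_eq_iff'.2 k0] at this
      simpa [mul_assoc] using this
    exact core _ e (Φ k * g⁻¹) (by rw [map_mul Φ (k * η), map_mul Φ k, e1, map_inv]; group) (k1 _ c1)
      (k1 _ c2)

theorem exists_x [Finite G] (hG : ∀ N : Subgroup G, N.index ≠ 2) : ∃ x, WS (fun i => Φ (tN i)) x ∧
    x * Φ (tM 0 * tM 1) * (x * Φ (tM 0 * tM 1)) = 1 := by
  have F' := L.fr.tw (⟨1, t⟩ : SD EP WP)
  have e1 : tN 1 = tM 8 * tM 0 := by decide +kernel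
  obtain ⟨g, p⟩ := (F'.five (L.fr.wc_sim (sim_tw _ _) L.wc) (n := Φ (tN 1))
    (by rw [Fr.tw_z, e1]; exact L.ct hG)
    (by rw [e1, map_mul, L.e0, ← Fr.tw_z (⟨1, t⟩ : SD EP WP)]
        exact (L.rtw.mul F'.rz).of_eq (mul_one _))).1
  have A := as_tN L.mod
  have P := L.toGd.pts'
  obtain ⟨x, W⟩ := A.exists_w (EA.of_pm A.ea P.1 P.2.1 P.2.2.1 P.2.2.2 p)
  refine ⟨x, W, (A.comm_c W (act_map Φ (μ := tM 0 * tM 1) (by decide +kernel))
    (by rw [← map_mul, ← map_one Φ]; exact congrArg Φ (by decide +kernel))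
    (by rw [← map_inv, ← map_inv, ← map_mul, ← map_mul]; exact congrArg Φ (by decide +kernel))
    ).resolve_right fun e => L.ntn ?_⟩
  have e2 : x * Φ (tM 0 * tM 1) * x⁻¹ = Φ (tN 0 * tN 1 * (tM 0 * tM 1)⁻¹) := by
    rw [W.winv, map_mul Φ (tN 0 * tN 1), map_mul Φ (tN 0), ← e, map_inv]; group
  rw [show tN 0 * tN 1 * (tM 0 * tM 1)⁻¹ = tM 8 * tM 0 * tM 1 by decide +kernel] at e2
  exact ((L.ct hG).trans L.cj2).trans (Cj.symm ⟨x, e2⟩)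

theorem l43 [Finite G] (hG : ∀ N : Subgroup G, N.index ≠ 2) :
    Nonempty (G ≃* Matrix.ProjectiveSpecialLinearGroup (Fin 4) (ZMod 3)) := by
  obtain ⟨x, W, cx⟩ := L.exists_x hG
  have e : ∀ i, i < 9 → upd (upd (fun i => Φ (tM i)) 9 w) 10 x i = Φ (tM i) := fun i hi => by
    rw [upd, if_neg (by omega), upd, if_neg (by omega)]
  obtain ⟨g1, g2⟩ := mod_gen L.mod tM_top
  refine H31.L43.final (x := upd (upd (fun i => Φ (tM i)) 9 w) 10 x) ?_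
    (by rw [gen_congr e, g1, e 0 (by omega)]; rfl)
    (by rw [gen_congr e, g2, SD.card, H70.Q32.card, Y36.card]) fun g k => L.ntn ⟨g, ?_⟩
  swap
  · rwa [e 0 (by omega), e 1 (by omega), L.e0, ← L.e0, ← map_mul, L.e0] at k
  refine Rels.of_subL (R := (H31.L43.R0.take 42) ++ [[18, 18], [18, 0, 18, 2], [18, 4, 18, 6],
    [18, 12, 18, 12], (List.replicate 5 [18, 8]).flatten, (List.replicate 5 [18, 10]).flatten,
    [18, 16, 18, 16], [20, 20], [20, 0, 20, 0, 16], [20, 4, 6, 8, 10, 16, 20, 0, 8, 10, 16],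
    [20, 14, 2, 20, 14, 2], (List.replicate 5 [20, 4, 10, 4]).flatten,
    (List.replicate 5 [20, 0, 10]).flatten, [20, 0, 2, 20, 0, 2]]) (Rels.append (fun u hu =>
      (evW_congr e (wfL_spec (by decide +kernel) hu)).trans (Rels.map Φ
      (show ∀ u ∈ H31.L43.R0.take 42, evW tM u = 1 by decide +kernel) u hu)) ?_)
    (by decide +kernel)
  have W0 := L.ws
  obtain ⟨f1, f2⟩ := (as_tM L.mod).five' W0
  obtain ⟨f3, f4⟩ := (as_tN L.mod).five' W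
  have k : ∀ {u v : M36}, u * v = 1 → Φ u * Φ v = 1 := fun h => by rw [← map_mul, h, map_one]
  have a1 : w * Φ (tM 0) * w * Φ (tM 1) = 1 := by rw [W0.wt]; exact k (by decide +kernel)
  have a2 : w * Φ (tM 2) * w * Φ (tM 3) = 1 := by rw [W0.wa]; exact k (by decide +kernel)
  have a3 : w * Φ (tM 6) * w * Φ (tM 6) = 1 := by
    nth_rewrite 2 [← W0.winv]; rw [W0.inv, inv_mul_cancel]
  have b1 : x * Φ (tN 0) * x * Φ (tN 1) = 1 := by rw [W.wt]; exact k (by decide +kernel)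
  have b2 : x * Φ (tN 2) * x * Φ (tN 3) = 1 := by rw [W.wa]; exact k (by decide +kernel)
  have b3 : x * Φ (tN 6) * x * Φ (tN 6) = 1 := by
    nth_rewrite 2 [← W.winv]; rw [W.inv, inv_mul_cancel]
  obtain ⟨n0, n1, n2, n3, n4, n5, n6⟩ : tN 0 = tM 0 ∧ tN 1 = tM 0 * tM 8 ∧
      tN 2 = tM 2 * tM 3 * tM 4 * tM 5 * tM 8 ∧ tN 3 = tM 0 * tM 4 * tM 5 * tM 8 ∧
      tN 4 = tM 2 * tM 5 * tM 2 ∧ tN 5 = tM 0 * tM 5 ∧ tN 6 = tM 7 * tM 1 := by decide +kernel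
  simp only [n0, n1, n2, n3, n4, n5, n6, map_mul, mul_assoc] at b1 b2 b3 f3 f4 cx
  have cw := L.cw
  simp only [mul_assoc] at a1 a2 a3 cw
  simp only [Rels, List.forall_mem_cons, evW_rep]
  simp [xl, upd, W0.sq, W.sq, a1, a2, a3, b1, b2, b3, f1, f2, f3, f4, cx, cw]

end LS

theorem eqns_wc3 : True := by
  have := @c0.eq_1
  trivial

end H31.X32
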